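import Mathlib
import Cfsg.Agent.Lib.Helper78.CharMore
import Cfsg.Agent.Lib.Helper78.CharValues
import Cfsg.Agent.Lib.Helper26.IrrFacts
import Cfsg.Agent.Lib.Helper26.IrrFactsInst

/-!
# General character-theoretic lemmas used in the Brauer–Leonard argument:
multiplicities, degree bounds, Bessel's inequality with its equality case.
-/

set_option autoImplicit false
set_option linter.style.haveILetI false
set_option linter.unusedSectionVars false
set_option linter.unusedVariables false

namespace Cfsg.Agent.Lib.Helper52.BL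

open Cfsg
open Cfsg.Agent.Lib.Helper26
open scoped ComplexConjugate

universe u

variable {K : Type u} [Group K] [Fintype K]

theorem classInner_self_eq_sum (f : K → ℂ) :
    classInner f f = (((Nat.card K : ℝ)⁻¹ * ∑ g : K, Complex.normSq (f g) : ℝ) : ℂ) := by
  unfold classInner
  push_cast
  congr 1
  apply Finset.sum_congr rfl
  intro g _
  rw [Complex.mul_conj]

theorem classInner_self_re_nonneg (f : K → ℂ) : 0 ≤ (classInner f f).re := by
  rw [classInner_self_eq_sum, Complex.ofReal_re]
  apply mul_nonneg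
  · exact inv_nonneg.mpr (Nat.cast_nonneg _)
  · exact Finset.sum_nonneg (fun g _ => Complex.normSq_nonneg _)

theorem classInner_self_eq_re (f : K → ℂ) : classInner f f = ((classInner f f).re : ℂ) := by
  rw [classInner_self_eq_sum, Complex.ofReal_re]

theorem eq_zero_of_classInner_self_re_nonpos {f : K → ℂ} (h : (classInner f f).re ≤ 0) :
    f = 0 := by
  apply classInner_self_eq_zero
  rw [classInner_self_eq_re]
  have := le_antisymm h (classInner_self_re_nonneg f)
  rw [this]; simp

/-- multiplicity of an irreducible character in a character -/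
noncomputable irreducible_def mult (A ψ : K → ℂ) : ℕ := ⌊(classInner A ψ).re⌋₊

theorem mult_spec {A ψ : K → ℂ} (hA : IsCharacter K A) (hψ : IsIrrCharacter K ψ) :
    classInner A ψ = (mult A ψ : ℂ) := by
  obtain ⟨n, hn⟩ := Helper78.IsCharacter.exists_nat_classInner hA ⟨ψ, hψ⟩
  simp only at hn
  rw [mult_def, hn]
  simp

theorem mult_spec' {A ψ : K → ℂ} (hA : IsCharacter K A) (hψ : IsIrrCharacter K ψ) :
    classInner ψ A = (mult A ψ : ℂ) := by
  rw [← classInner_conj_symm, mult_spec hA hψ]
  simp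

theorem mult_irr {ψ ψ' : K → ℂ} (hψ : IsIrrCharacter K ψ) (hψ' : IsIrrCharacter K ψ') :
    mult ψ ψ' = if ψ = ψ' then 1 else 0 := by
  have h1 := mult_spec (Helper78.IsIrrCharacter.isCharacter hψ) hψ'
  rw [Helper78.classInner_irr hψ hψ'] at h1
  split_ifs with he
  · rw [if_pos he] at h1; exact_mod_cast h1.symm
  · rw [if_neg he] at h1; exact_mod_cast h1.symm

theorem eq_sum_mult {A : K → ℂ} (hA : IsCharacter K A) :
    A = ∑ ψ : IrrCharacter K, (mult A (ψ : K → ℂ) : ℂ) • (ψ : K → ℂ) := by
  conv_lhs => rw [Helper78.IsCharacter.eq_sum_irr hA]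
  apply Finset.sum_congr rfl
  intro ψ _
  rw [mult_spec hA ψ.2]

theorem charDegree_eq_sum_mult {A : K → ℂ} (hA : IsCharacter K A) :
    charDegree A = ∑ ψ : IrrCharacter K, mult A (ψ : K → ℂ) * charDegree (ψ : K → ℂ) := by
  have h1 : A 1 = ∑ ψ : IrrCharacter K, (mult A (ψ : K → ℂ) : ℂ) * (ψ : K → ℂ) 1 := by
    conv_lhs => rw [eq_sum_mult hA]
    rw [Finset.sum_apply]
    rfl
  rw [Helper78.IsCharacter.apply_one_eq_charDegree hA] at h1
  have h2 : ∀ ψ : IrrCharacter K, (ψ : K → ℂ) 1 = (charDegree (ψ : K → ℂ) : ℂ) := fun ψ =>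
    Helper78.IsCharacter.apply_one_eq_charDegree (Helper78.IsIrrCharacter.isCharacter ψ.2)
  simp only [h2] at h1
  exact_mod_cast h1

/-- lower bound for the degree of a character in terms of some of its constituents -/
theorem sum_mult_le_charDegree {A : K → ℂ} (hA : IsCharacter K A) {ι : Type*} [Fintype ι]
    (f : ι → K → ℂ) (hf : ∀ i, IsIrrCharacter K (f i)) (hinj : Function.Injective f) :
    ∑ i, mult A (f i) * charDegree (f i) ≤ charDegree A := by
  classical
  rw [charDegree_eq_sum_mult hA]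
  let F : ι → IrrCharacter K := fun i => ⟨f i, hf i⟩
  have hF : Function.Injective F := fun i j hij => hinj (congrArg Subtype.val hij)
  calc ∑ i, mult A (f i) * charDegree (f i)
      = ∑ ψ ∈ Finset.univ.image F, mult A (ψ : K → ℂ) * charDegree (ψ : K → ℂ) := by
        rw [Finset.sum_image (fun i _ j _ hij => hF hij)]
    _ ≤ ∑ ψ : IrrCharacter K, mult A (ψ : K → ℂ) * charDegree (ψ : K → ℂ) :=
        Finset.sum_le_sum_of_subset (Finset.subset_univ _)

theorem mult_le_charDegree {A ψ : K → ℂ} (hA : IsCharacter K A) (hψ : IsIrrCharacter K ψ) :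
    mult A ψ * charDegree ψ ≤ charDegree A := by
  have := sum_mult_le_charDegree hA (fun _ : Unit => ψ) (fun _ => hψ)
    (fun _ _ _ => Subsingleton.elim _ _)
  simpa using this

/-- inner product of two characters in terms of multiplicities -/
theorem classInner_eq_sum_mult {A B : K → ℂ} (hA : IsCharacter K A) (hB : IsCharacter K B) :
    classInner A B = ((∑ ψ : IrrCharacter K, mult A (ψ : K → ℂ) * mult B (ψ : K → ℂ) : ℕ) : ℂ) := by
  rw [Helper78.classInner_eq_sum_mul_conj B (Helper78.IsCharacter.isClassFunction hA)]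
  push_cast
  apply Finset.sum_congr rfl
  intro ψ _
  rw [mult_spec hA ψ.2, mult_spec hB ψ.2]
  simp

theorem mult_mul_mult_le {A B ψ : K → ℂ} (hA : IsCharacter K A) (hB : IsCharacter K B)
    (hψ : IsIrrCharacter K ψ) (n : ℕ) (hn : classInner A B = n) : mult A ψ * mult B ψ ≤ n := by
  classical
  rw [classInner_eq_sum_mult hA hB] at hn
  have hn' : ∑ ψ : IrrCharacter K, mult A (ψ : K → ℂ) * mult B (ψ : K → ℂ) = n := by
    exact_mod_cast hn
  rw [← hn']
  exact Finset.single_le_sum (f := fun ψ : IrrCharacter K =>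
    mult A (ψ : K → ℂ) * mult B (ψ : K → ℂ)) (fun _ _ => Nat.zero_le _)
    (Finset.mem_univ (⟨ψ, hψ⟩ : IrrCharacter K))

/-- **Bessel**: the defect -/
theorem classInner_sub_sum {κ : Type*} [Fintype κ] (A : K → ℂ) (Z : κ → K → ℂ)
    (hZ : ∀ k, IsIrrCharacter K (Z k)) (hinj : Function.Injective Z) (b : κ → ℝ)
    (hb : ∀ k, classInner A (Z k) = (b k : ℂ)) :
    classInner (A - ∑ k, (b k : ℂ) • Z k) (A - ∑ k, (b k : ℂ) • Z k) =
      classInner A A - ((∑ k, b k ^ 2 : ℝ) : ℂ) := by
  classical
  have h1 : classInner A (∑ k, (b k : ℂ) • Z k) = ((∑ k, b k ^ 2 : ℝ) : ℂ) := by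
    rw [classInner_sum_right, Complex.ofReal_sum]
    apply Finset.sum_congr rfl
    intro k _
    rw [classInner_smul_right, hb k, Complex.conj_ofReal, Complex.ofReal_pow]
    ring
  have h2 : classInner (∑ k, (b k : ℂ) • Z k) A = ((∑ k, b k ^ 2 : ℝ) : ℂ) := by
    rw [← classInner_conj_symm, h1, Complex.conj_ofReal]
  have h3 : classInner (∑ k, (b k : ℂ) • Z k) (∑ k, (b k : ℂ) • Z k) =
      ((∑ k, b k ^ 2 : ℝ) : ℂ) := by
    rw [classInner_sum_left, Complex.ofReal_sum]
    apply Finset.sum_congr rfl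
    intro k _
    rw [classInner_smul_left, classInner_sum_right, Finset.sum_eq_single k]
    · rw [classInner_smul_right, Helper78.classInner_irr_self (hZ k), Complex.conj_ofReal,
        Complex.ofReal_pow]
      ring
    · intro l _ hlk
      rw [classInner_smul_right, Helper78.classInner_irr_ne (hZ k) (hZ l)
        (fun he => hlk (hinj he).symm), mul_zero]
    · intro hk; exact absurd (Finset.mem_univ k) hk
  rw [classInner_sub_left, classInner_sub_right, classInner_sub_right, h1, h2, h3]
  ring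

theorem bessel {κ : Type*} [Fintype κ] (A : K → ℂ) (Z : κ → K → ℂ)
    (hZ : ∀ k, IsIrrCharacter K (Z k)) (hinj : Function.Injective Z) (b : κ → ℝ)
    (hb : ∀ k, classInner A (Z k) = (b k : ℂ)) :
    ∑ k, b k ^ 2 ≤ (classInner A A).re := by
  have h := classInner_sub_sum A Z hZ hinj b hb
  have h0 := classInner_self_re_nonneg (A - ∑ k, (b k : ℂ) • Z k)
  rw [h, Complex.sub_re, Complex.ofReal_re] at h0
  linarith

theorem bessel_eq {κ : Type*} [Fintype κ] (A : K → ℂ) (Z : κ → K → ℂ)
    (hZ : ∀ k, IsIrrCharacter K (Z k)) (hinj : Function.Injective Z) (b : κ → ℝ)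
    (hb : ∀ k, classInner A (Z k) = (b k : ℂ))
    (he : (classInner A A).re ≤ ∑ k, b k ^ 2) :
    A = ∑ k, (b k : ℂ) • Z k := by
  have h := classInner_sub_sum A Z hZ hinj b hb
  have h0 : (classInner (A - ∑ k, (b k : ℂ) • Z k) (A - ∑ k, (b k : ℂ) • Z k)).re ≤ 0 := by
    rw [h, Complex.sub_re, Complex.ofReal_re]
    linarith
  have := eq_zero_of_classInner_self_re_nonpos h0
  exact sub_eq_zero.mp this

end Cfsg.Agent.Lib.Helper52.BL
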