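import Mathlib

/-!
# Brauer–Leonard set-up, group-theoretic part

`P` a Sylow `p`-subgroup of the finite group `G` such that `C_G(x) = C_G(P)` for every
non-identity `x ∈ P`.  We collect: `P ≤ C := C_G(P)`; `p`-elements of `C` lie in `P`;
the trivial-intersection property of the `p`-singular elements of `C` (with "normalizer"
`N := N_G(P)`); a projection `C → P` whose kernel is the set of `p`-regular elements of `C`;
freeness of the action of `N / C` on `P`.
-/

set_option autoImplicit false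
set_option linter.style.haveILetI false
set_option linter.unusedSectionVars false

namespace Cfsg.Agent.Lib.Helper52.BL

open Subgroup

universe u

variable {G : Type u} [Group G] {p : ℕ} [Fact p.Prime] (P : Sylow p G)

/-- The Brauer–Leonard hypothesis: every non-identity element of `P` has the same centralizer as
`P` itself. -/
def Star : Prop :=
  ∀ x ∈ (P : Subgroup G), x ≠ 1 →
    centralizer ({x} : Set G) = centralizer ((P : Subgroup G) : Set G)

/-- `C_G(P)` -/
abbrev cen : Subgroup G := centralizer ((P : Subgroup G) : Set G)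

/-- `N_G(P)` -/
abbrev nor : Subgroup G := normalizer ((P : Subgroup G) : Set G)

variable {P}

theorem le_cen (h : Star P) : (P : Subgroup G) ≤ cen P := by
  intro x hx
  by_cases hx1 : x = 1
  · rw [hx1]; exact one_mem _
  · change x ∈ centralizer ((P : Subgroup G) : Set G)
    rw [← h x hx hx1]
    exact mem_centralizer_iff.mpr (fun y hy => by rw [Set.mem_singleton_iff.mp hy])

theorem mem_cen_of_commute (h : Star P) {x g : G} (hx : x ∈ (P : Subgroup G)) (hx1 : x ≠ 1)
    (hc : x * g = g * x) : g ∈ cen P := by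
  change g ∈ centralizer ((P : Subgroup G) : Set G)
  rw [← h x hx hx1]
  exact mem_centralizer_iff.mpr (fun y hy => by rw [Set.mem_singleton_iff.mp hy]; exact hc)

theorem commute_of_mem (h : Star P) {x y : G} (hx : x ∈ (P : Subgroup G))
    (hy : y ∈ (P : Subgroup G)) : x * y = y * x :=
  mem_centralizer_iff.mp (le_cen h hy) x hx

theorem cen_le_nor : cen P ≤ nor P := by
  intro c hc
  rw [mem_normalizer_iff]
  intro y
  constructor
  · intro hy
    have := mem_centralizer_iff.mp hc y hy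
    rw [← this, mul_inv_cancel_right]
    exact hy
  · intro hy
    have h1 := mem_centralizer_iff.mp (inv_mem hc) _ hy
    have h2 : c⁻¹ * (c * y * c⁻¹) * c = y := by group
    have h3 : c⁻¹ * (c * y * c⁻¹) * c = c * y * c⁻¹ := by
      rw [← h1]; group
    rw [← h2, h3]
    exact hy

theorem conj_mem_P {n y : G} (hn : n ∈ nor P) (hy : y ∈ (P : Subgroup G)) :
    n * y * n⁻¹ ∈ (P : Subgroup G) :=
  (mem_normalizer_iff.mp hn y).mp hy

theorem conj_mem_P' {n y : G} (hn : n ∈ nor P) (hy : y ∈ (P : Subgroup G)) :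
    n⁻¹ * y * n ∈ (P : Subgroup G) := by
  have := conj_mem_P (inv_mem hn) hy
  rwa [inv_inv] at this

theorem conj_mem_cen {n c : G} (hn : n ∈ nor P) (hc : c ∈ cen P) : n * c * n⁻¹ ∈ cen P := by
  rw [mem_centralizer_iff]
  intro y hy
  have h1 := mem_centralizer_iff.mp hc _ (conj_mem_P' hn hy)
  calc y * (n * c * n⁻¹) = n * ((n⁻¹ * y * n) * c) * n⁻¹ := by group
    _ = n * (c * (n⁻¹ * y * n)) * n⁻¹ := by rw [h1]
    _ = n * c * n⁻¹ * y := by group

theorem conj_mem_cen' {n c : G} (hn : n ∈ nor P) (hc : c ∈ cen P) : n⁻¹ * c * n ∈ cen P := by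
  have := conj_mem_cen (inv_mem hn) hc
  rwa [inv_inv] at this

/-- `p`-elements of `C_G(P)` lie in `P`. -/
theorem mem_of_isPElt {c : G} (hc : c ∈ cen P) (hk : ∃ k : ℕ, orderOf c = p ^ k) :
    c ∈ (P : Subgroup G) := by
  obtain ⟨k, hk⟩ := hk
  have hz : IsPGroup p (zpowers c) := by
    apply IsPGroup.of_card (n := k)
    rw [Nat.card_zpowers, hk]
  have hle : (P : Subgroup G) ≤ normalizer ((zpowers c : Subgroup G) : Set G) := by
    intro y hy
    rw [mem_normalizer_iff]
    have hcomm : y * c = c * y := mem_centralizer_iff.mp hc y hy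
    intro z
    have key : ∀ w ∈ zpowers c, y * w * y⁻¹ = w := by
      intro w hw
      obtain ⟨i, rfl⟩ := mem_zpowers_iff.mp hw
      have : Commute y (c ^ i) := (Commute.zpow_right hcomm i)
      rw [this.eq, mul_inv_cancel_right]
    constructor
    · intro hz'
      rw [key z hz']; exact hz'
    · intro hz'
      have := key _ hz'
      have h3 : y * z * y⁻¹ = z := by
        have h4 : y * (y * z * y⁻¹) * y⁻¹ = y * z * y⁻¹ := this
        have h5 : y * (y * z * y⁻¹) * y⁻¹ = y * (y * z * y⁻¹ * y⁻¹) := by group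
        have h6 : y * z * y⁻¹ = y * (z * y⁻¹) := by group
        rw [h5, h6] at h4
        have h7 := mul_left_cancel h4
        have h8 : y * (z * y⁻¹) * y⁻¹ * y = z * y⁻¹ * y := by rw [h7]
        have h9 : y * (z * y⁻¹) * y⁻¹ * y = y * z * y⁻¹ := by group
        rw [h9] at h8
        rw [h8]; group
      rwa [h3] at hz'
  have hsup := IsPGroup.to_sup_of_normal_right' P.2 hz hle
  have := P.is_maximal' hsup le_sup_left
  rw [← this]
  exact le_sup_right (a := (P : Subgroup G)) (mem_zpowers c)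

theorem orderOf_conj_eq (g z : G) : orderOf (g * z * g⁻¹) = orderOf z := by
  have := MulEquiv.orderOf_eq (MulAut.conj g) z
  rwa [MulAut.conj_apply] at this

theorem isPElt_of_mem {z : G} (hz : z ∈ (P : Subgroup G)) : ∃ k : ℕ, orderOf z = p ^ k := by
  obtain ⟨k, hk⟩ := (IsPGroup.iff_orderOf.mp P.2) ⟨z, hz⟩
  exact ⟨k, by rw [← hk, Subgroup.orderOf_mk]⟩

/-- if `g` conjugates one non-identity element of `P` into `P`, it conjugates `P` into `P` -/
theorem conj_le_of_conj_mem (h : Star P) {x g : G} (hx : x ∈ (P : Subgroup G)) (hx1 : x ≠ 1)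
    (hgx : g * x * g⁻¹ ∈ (P : Subgroup G)) :
    ∀ z ∈ (P : Subgroup G), g * z * g⁻¹ ∈ (P : Subgroup G) := by
  intro z hz
  have hx1' : g * x * g⁻¹ ≠ 1 := by
    intro h1
    apply hx1
    have : x = g⁻¹ * (g * x * g⁻¹) * g := by group
    rw [this, h1]; group
  have hcomm : (g * x * g⁻¹) * (g * z * g⁻¹) = (g * z * g⁻¹) * (g * x * g⁻¹) := by
    have h2 := commute_of_mem h hx hz
    calc (g * x * g⁻¹) * (g * z * g⁻¹) = g * (x * z) * g⁻¹ := by group
      _ = g * (z * x) * g⁻¹ := by rw [h2]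
      _ = (g * z * g⁻¹) * (g * x * g⁻¹) := by group
  have hc : g * z * g⁻¹ ∈ cen P := mem_cen_of_commute h hgx hx1' hcomm
  apply mem_of_isPElt hc
  obtain ⟨k, hk⟩ := isPElt_of_mem hz
  exact ⟨k, by rw [orderOf_conj_eq, hk]⟩

/-- **Trivial intersection property**: if `y ∈ C_G(P)` is `p`-singular and a conjugate
`g y g⁻¹` lies in `C_G(P)`, then `g ∈ N_G(P)`. -/
theorem mem_nor_of_conj [Finite G] (h : Star P) {y g : G} (hy : y ∈ cen P)
    (hp : p ∣ orderOf y) (hg : g * y * g⁻¹ ∈ cen P) : g ∈ nor P := by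
  have hp' : p.Prime := Fact.out
  set x := y ^ (orderOf y / p) with hxdef
  have hox : orderOf x = p := orderOf_pow_orderOf_div (orderOf_pos y).ne' hp
  have hxc : x ∈ cen P := pow_mem hy _
  have hxP : x ∈ (P : Subgroup G) := mem_of_isPElt hxc ⟨1, by rw [hox, pow_one]⟩
  have hx1 : x ≠ 1 := by
    intro h1
    rw [h1, orderOf_one] at hox
    exact hp'.one_lt.ne hox
  have hgx : g * x * g⁻¹ = (g * y * g⁻¹) ^ (orderOf y / p) := by
    rw [hxdef, conj_pow]
  have hgxc : g * x * g⁻¹ ∈ cen P := by rw [hgx]; exact pow_mem hg _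
  have hgxP : g * x * g⁻¹ ∈ (P : Subgroup G) :=
    mem_of_isPElt hgxc ⟨1, by rw [orderOf_conj_eq, hox, pow_one]⟩
  have hgx1 : g * x * g⁻¹ ≠ 1 := by
    intro h1
    apply hx1
    have : x = g⁻¹ * (g * x * g⁻¹) * g := by group
    rw [this, h1]; group
  have h1 := conj_le_of_conj_mem h hxP hx1 hgxP
  have h2 : ∀ z ∈ (P : Subgroup G), g⁻¹ * z * g⁻¹⁻¹ ∈ (P : Subgroup G) := by
    apply conj_le_of_conj_mem h hgxP hgx1
    have : g⁻¹ * (g * x * g⁻¹) * g⁻¹⁻¹ = x := by group
    rw [this]; exact hxP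
  rw [mem_normalizer_iff]
  intro z
  constructor
  · exact h1 z
  · intro hz
    have := h2 _ hz
    have h3 : g⁻¹ * (g * z * g⁻¹) * g⁻¹⁻¹ = z := by group
    rwa [h3] at this

/-- `N_G(P)/C_G(P)` acts freely on the characters of `P`: a homomorphism from `P` to a
commutative group that is invariant under conjugation by some `n ∈ N_G(P) ∖ C_G(P)` is trivial. -/
theorem monoidHom_eq_one_of_conj_invariant [Finite G] (h : Star P) {M : Type*} [CommGroup M]
    {n : G} (hn : n ∈ nor P) (hnc : n ∉ cen P) (ω : ↥(P : Subgroup G) →* M)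
    (hω : ∀ y : ↥(P : Subgroup G), ω ⟨n⁻¹ * y * n, conj_mem_P' hn y.2⟩ = ω y) : ω = 1 := by
  classical
  let θ : ↥(P : Subgroup G) → ↥(P : Subgroup G) :=
    fun y => y⁻¹ * ⟨n⁻¹ * y * n, conj_mem_P' hn y.2⟩
  have hθω : ∀ y, ω (θ y) = 1 := by
    intro y
    change ω (y⁻¹ * ⟨n⁻¹ * y * n, conj_mem_P' hn y.2⟩) = 1
    rw [map_mul, hω y, map_inv, inv_mul_cancel]
  have hinj : Function.Injective θ := by
    intro y y' hyy
    have h0 : (y : G)⁻¹ * (n⁻¹ * y * n) = (y' : G)⁻¹ * (n⁻¹ * y' * n) := by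
      have := congrArg (fun w : ↥(P : Subgroup G) => (w : G)) hyy
      simpa [θ] using this
    -- `u = y' y⁻¹` commutes with `n`
    obtain ⟨u, hu⟩ : ∃ u : G, u = (y' : G) * (y : G)⁻¹ := ⟨_, rfl⟩
    have huP : u ∈ (P : Subgroup G) := by rw [hu]; exact mul_mem y'.2 (inv_mem y.2)
    have hc1 : (n⁻¹ * y' * n) * (n⁻¹ * y * n)⁻¹ = (y' : G) * (y : G)⁻¹ := by
      have hP1 := conj_mem_P' hn y.2
      have hP2 := conj_mem_P' hn y'.2
      -- all elements involved lie in the abelian group `P`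
      have e1 : (n⁻¹ * y' * n) = (y' : G) * ((y : G)⁻¹ * (n⁻¹ * y * n)) := by
        rw [h0]; group
      rw [e1]
      have c1 := commute_of_mem h (inv_mem y.2) hP1
      calc (y' : G) * ((y : G)⁻¹ * (n⁻¹ * ↑y * n)) * (n⁻¹ * ↑y * n)⁻¹
          = (y' : G) * (y : G)⁻¹ * ((n⁻¹ * ↑y * n) * (n⁻¹ * ↑y * n)⁻¹) := by group
        _ = (y' : G) * (y : G)⁻¹ := by rw [mul_inv_cancel, mul_one]
    have hun : n⁻¹ * u * n = u := by
      calc n⁻¹ * u * n = (n⁻¹ * y' * n) * (n⁻¹ * y * n)⁻¹ := by rw [hu]; group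
        _ = u := by rw [hc1, hu]
    by_contra hne
    have hu1 : u ≠ 1 := by
      intro h1
      apply hne
      apply Subtype.ext
      have : (y' : G) = u * y := by rw [hu]; group
      rw [this, h1, one_mul]
    apply hnc
    apply mem_cen_of_commute h huP hu1
    calc u * n = n * (n⁻¹ * u * n) := by group
      _ = n * u := by rw [hun]
  have hsurj : Function.Surjective θ := Finite.injective_iff_surjective.mp hinj
  ext z
  obtain ⟨y, rfl⟩ := hsurj z
  rw [hθω]; rfl


/-- The projection of `C_G(P) = P × V` onto `P`: a homomorphism that is the identity on `P` and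
whose kernel is the set of `p`-regular elements. -/
theorem exists_proj [Finite G] (h : Star P) :
    ∃ π : ↥(cen P) →* ↥(P : Subgroup G),
      (∀ x : ↥(P : Subgroup G), π ⟨x, le_cen h x.2⟩ = x) ∧
      (∀ c : ↥(cen P), π c = 1 ↔ ¬ p ∣ orderOf (c : G)) := by
  classical
  have hp' : p.Prime := Fact.out
  set P' : Subgroup ↥(cen P) := (P : Subgroup G).subgroupOf (cen P) with hP'
  -- `P'` is central, hence normal
  have hcentral : ∀ x ∈ P', ∀ c : ↥(cen P), x * c = c * x := by
    intro x hx c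
    apply Subtype.ext
    have := mem_centralizer_iff.mp c.2 (x : G) (mem_subgroupOf.mp hx)
    exact this
  haveI hnorm : P'.Normal := by
    constructor
    intro x hx c
    have := hcentral x hx c
    have h2 : c * x * c⁻¹ = x := by rw [← this]; group
    rw [h2]; exact hx
  have hcardP' : Nat.card P' = Nat.card (P : Subgroup G) :=
    Nat.card_congr (subgroupOfEquivOfLe (le_cen h)).toEquiv
  have hcop : Nat.Coprime (Nat.card P') P'.index := by
    rw [hcardP']
    have h1 := P.card_coprime_index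
    have h2 : P'.index ∣ (P : Subgroup G).index := relIndex_dvd_index_of_le (le_cen h)
    exact Nat.Coprime.coprime_dvd_right h2 h1
  obtain ⟨V, hV⟩ := exists_right_complement'_of_coprime hcop
  -- `V` is normal
  haveI hVn : V.Normal := by
    constructor
    intro v hv c
    obtain ⟨⟨⟨x, hx⟩, ⟨w, hw⟩⟩, hxw⟩ := hV.existsUnique c |>.exists
    simp only at hxw
    rw [← hxw]
    have h1 := hcentral x hx
    have : x * w * v * (x * w)⁻¹ = w * v * w⁻¹ := by
      have e1 : x * w * v * (x * w)⁻¹ = x * (w * v * w⁻¹) * x⁻¹ := by group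
      rw [e1, h1 (w * v * w⁻¹)]; group
    rw [this]
    exact V.mul_mem (V.mul_mem hw hv) (V.inv_mem hw)
  let e := hV.QuotientMulEquiv
  let π : ↥(cen P) →* ↥(P : Subgroup G) :=
    (subgroupOfEquivOfLe (le_cen h)).toMonoidHom.comp
      (e.toMonoidHom.comp (QuotientGroup.mk' V))
  have hπker : ∀ c : ↥(cen P), π c = 1 ↔ c ∈ V := by
    intro c
    change (subgroupOfEquivOfLe (le_cen h)) (e (QuotientGroup.mk' V c)) = 1 ↔ _
    rw [MulEquiv.map_eq_one_iff, MulEquiv.map_eq_one_iff, QuotientGroup.mk'_apply,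
      QuotientGroup.eq_one_iff]
  have hcardV : Nat.card V = P'.index := (hV.symm.index_eq_card).symm
  refine ⟨π, ?_, ?_⟩
  · intro x
    have hx' : (⟨x, le_cen h x.2⟩ : ↥(cen P)) ∈ P' := mem_subgroupOf.mpr x.2
    have h1 : e (QuotientGroup.mk' V ⟨x, le_cen h x.2⟩) = ⟨⟨x, le_cen h x.2⟩, hx'⟩ := by
      rw [← MulEquiv.eq_symm_apply]
      rfl
    change (subgroupOfEquivOfLe (le_cen h)) (e (QuotientGroup.mk' V ⟨x, le_cen h x.2⟩)) = x
    rw [h1]
    apply Subtype.ext
    rfl
  · intro c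
    rw [hπker]
    constructor
    · intro hc hdvd
      have h1 : orderOf (c : G) ∣ Nat.card V := by
        have h2 : orderOf (⟨c, hc⟩ : V) = orderOf (c : G) := by
          rw [← Subgroup.orderOf_coe, ← Subgroup.orderOf_coe]
        rw [← h2]
        exact orderOf_dvd_natCard _
      have h3 : p ∣ P'.index := by rw [← hcardV]; exact dvd_trans hdvd h1
      have h2 : P'.index ∣ (P : Subgroup G).index := relIndex_dvd_index_of_le (le_cen h)
      exact P.not_dvd_index (dvd_trans h3 h2)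
    · intro hc
      rw [← hπker]
      obtain ⟨k, hk⟩ := isPElt_of_mem (π c).2
      have hdvd : orderOf ((π c : ↥(P : Subgroup G)) : G) ∣ orderOf (c : G) := by
        rw [Subgroup.orderOf_coe, Subgroup.orderOf_coe]
        exact orderOf_map_dvd π c
      rw [hk] at hdvd
      cases k with
      | zero =>
        rw [pow_zero, orderOf_eq_one_iff] at hk
        exact Subtype.ext hk
      | succ k =>
        exfalso
        apply hc
        exact dvd_trans (dvd_pow_self p (Nat.succ_ne_zero k)) hdvd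


/-- equivariance of the projection under `N_G(P)` -/
theorem proj_conj [Finite G] (h : Star P) (π : ↥(cen P) →* ↥(P : Subgroup G))
    (hπ1 : ∀ x : ↥(P : Subgroup G), π ⟨x, le_cen h x.2⟩ = x)
    (hπ2 : ∀ c : ↥(cen P), π c = 1 ↔ ¬ p ∣ orderOf (c : G))
    {n : G} (hn : n ∈ nor P) (c : ↥(cen P)) :
    π ⟨n⁻¹ * c * n, conj_mem_cen' hn c.2⟩ = ⟨n⁻¹ * (π c : G) * n, conj_mem_P' hn (π c).2⟩ := by
  set x : ↥(P : Subgroup G) := π c with hx
  set xC : ↥(cen P) := ⟨x, le_cen h x.2⟩ with hxC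
  set v : ↥(cen P) := xC⁻¹ * c with hv
  have hπv : π v = 1 := by
    rw [hv, map_mul, map_inv, hxC, hπ1 x, hx, inv_mul_cancel]
  have hvreg : ¬ p ∣ orderOf (v : G) := (hπ2 v).mp hπv
  have hdec : (⟨n⁻¹ * c * n, conj_mem_cen' hn c.2⟩ : ↥(cen P)) =
      ⟨n⁻¹ * (x : G) * n, le_cen h (conj_mem_P' hn x.2)⟩ *
        ⟨n⁻¹ * (v : G) * n, conj_mem_cen' hn v.2⟩ := by
    apply Subtype.ext
    have : (c : G) = (x : G) * (v : G) := by
      rw [hv, hxC]
      simp
    simp only [Subgroup.coe_mul]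
    rw [this]; group
  rw [hdec, map_mul]
  have h1 : π ⟨n⁻¹ * (x : G) * n, le_cen h (conj_mem_P' hn x.2)⟩ =
      ⟨n⁻¹ * (x : G) * n, conj_mem_P' hn x.2⟩ :=
    hπ1 ⟨n⁻¹ * (x : G) * n, conj_mem_P' hn x.2⟩
  have h2 : π ⟨n⁻¹ * (v : G) * n, conj_mem_cen' hn v.2⟩ = 1 := by
    rw [hπ2]
    have := orderOf_conj_eq n⁻¹ (v : G)
    rw [inv_inv] at this
    simp only
    rw [this]
    exact hvreg
  rw [h1, h2, mul_one]

/-- the number of `p`-regular elements of `C_G(P)` is `|C_G(P)| / |P|` -/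
theorem card_regular_mul_card [Finite G] (h : Star P) (π : ↥(cen P) →* ↥(P : Subgroup G))
    (hπ1 : ∀ x : ↥(P : Subgroup G), π ⟨x, le_cen h x.2⟩ = x)
    (hπ2 : ∀ c : ↥(cen P), π c = 1 ↔ ¬ p ∣ orderOf (c : G)) :
    Nat.card {c : ↥(cen P) // ¬ p ∣ orderOf (c : G)} * Nat.card (P : Subgroup G) =
      Nat.card (cen P) := by
  have hsurj : Function.Surjective π := fun x => ⟨⟨x, le_cen h x.2⟩, hπ1 x⟩
  have h1 : Nat.card {c : ↥(cen P) // ¬ p ∣ orderOf (c : G)} = Nat.card π.ker := by
    apply Nat.card_congr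
    exact Equiv.subtypeEquivRight (fun c => by rw [MonoidHom.mem_ker, hπ2])
  have h2 : π.ker.index = Nat.card (P : Subgroup G) := by
    rw [Subgroup.index_ker, MonoidHom.range_eq_top.mpr hsurj, Subgroup.card_top]
  rw [h1, ← h2, Subgroup.card_mul_index]

end Cfsg.Agent.Lib.Helper52.BL
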