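import Mathlib
import Cfsg.Agent.Lib.Helper52.BL.Group
import Cfsg.Agent.Lib.Helper75.Clifford
import Cfsg.Agent.Lib.Helper75.IndNormal
import Cfsg.Agent.Lib.Helper78.CharMore
import Cfsg.Agent.Lib.Helper78.CharValues
import Cfsg.Agent.Lib.Helper26.IrrFacts
import Cfsg.Agent.Lib.Helper81.IrrTwist

/-!
# Brauer–Leonard set-up: class functions on `C = C_G(P)`, conjugation by `N = N_G(P)`,
induction of class functions vanishing on the `p`-regular elements of `C`.
-/

set_option autoImplicit false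
set_option linter.style.haveILetI false
set_option linter.unusedSectionVars false
set_option linter.unusedVariables false

namespace Cfsg.Agent.Lib.Helper52.BL

open Cfsg Subgroup
open Cfsg.Agent.Lib.Helper26 Cfsg.Agent.Lib.Helper75
open scoped ComplexConjugate

universe u

variable {G : Type u} [Group G] [Fintype G] {p : ℕ} [Fact p.Prime] {P : Sylow p G}

/-- the projection `C_G(P) → P` -/
noncomputable def proj (h : Star P) : ↥(cen P) →* ↥(P : Subgroup G) := (exists_proj h).choose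

theorem proj_coe (h : Star P) (x : ↥(P : Subgroup G)) : proj h ⟨x, le_cen h x.2⟩ = x :=
  (exists_proj h).choose_spec.1 x

theorem proj_eq_one_iff (h : Star P) (c : ↥(cen P)) :
    proj h c = 1 ↔ ¬ p ∣ orderOf (c : G) :=
  (exists_proj h).choose_spec.2 c

theorem proj_conj' (h : Star P) {n : G} (hn : n ∈ nor P) (c : ↥(cen P)) :
    proj h ⟨n⁻¹ * c * n, conj_mem_cen' hn c.2⟩ =
      ⟨n⁻¹ * (proj h c : G) * n, conj_mem_P' hn (proj h c).2⟩ :=
  proj_conj h (proj h) (proj_coe h) (proj_eq_one_iff h) hn c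

/-- a function on `C_G(P)` vanishing on the `p`-regular elements -/
def IsSing (φ : ↥(cen P) → ℂ) : Prop := ∀ c : ↥(cen P), ¬ p ∣ orderOf (c : G) → φ c = 0

/-- conjugate of a function on `C_G(P)` by an element of `G` (meaningful for elements of
`N_G(P)`): `c ↦ φ (x⁻¹ c x)` -/
noncomputable def cj (x : G) (φ : ↥(cen P) → ℂ) : ↥(cen P) → ℂ :=
  fun c => extendByZero (cen P) φ (x⁻¹ * (c : G) * x)

theorem cj_apply {x : G} (hx : x ∈ nor P) (φ : ↥(cen P) → ℂ) (c : ↥(cen P)) :
    cj x φ c = φ ⟨x⁻¹ * c * x, conj_mem_cen' hx c.2⟩ := by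
  unfold cj
  rw [extendByZero_of_mem _ _ (conj_mem_cen' hx c.2)]

/-- conjugation by `x ∈ N_G(P)` as an automorphism of `C_G(P)` -/
noncomputable def conjC {x : G} (hx : x ∈ nor P) : ↥(cen P) ≃* ↥(cen P) where
  toFun c := ⟨x⁻¹ * c * x, conj_mem_cen' hx c.2⟩
  invFun c := ⟨x * c * x⁻¹, conj_mem_cen hx c.2⟩
  left_inv c := by apply Subtype.ext; simp [mul_assoc]
  right_inv c := by apply Subtype.ext; simp [mul_assoc]
  map_mul' a b := by apply Subtype.ext; simp [mul_assoc]

theorem cj_eq_comp {x : G} (hx : x ∈ nor P) (φ : ↥(cen P) → ℂ) : cj x φ = φ ∘ conjC hx := by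
  funext c
  rw [cj_apply hx]
  rfl

theorem isIrrCharacter_cj {x : G} (hx : x ∈ nor P) {φ : ↥(cen P) → ℂ}
    (hφ : IsIrrCharacter ↥(cen P) φ) : IsIrrCharacter ↥(cen P) (cj x φ) := by
  rw [cj_eq_comp hx]
  exact Helper81.isIrrCharacter_comp_mulEquiv hφ (conjC hx)

theorem isCharacter_cj {x : G} (hx : x ∈ nor P) {φ : ↥(cen P) → ℂ}
    (hφ : IsCharacter ↥(cen P) φ) : IsCharacter ↥(cen P) (cj x φ) := by
  rw [cj_eq_comp hx]
  exact Helper81.isCharacter_comp hφ (conjC hx).toMonoidHom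

theorem cj_add (x : G) (φ φ' : ↥(cen P) → ℂ) : cj x (φ + φ') = cj x φ + cj x φ' := by
  funext c
  unfold cj
  rw [Pi.add_apply, extendByZero_add]

theorem cj_smul (x : G) (a : ℂ) (φ : ↥(cen P) → ℂ) : cj x (a • φ) = a • cj x φ := by
  funext c
  unfold cj
  rw [Pi.smul_apply, extendByZero_smul, smul_eq_mul]

theorem cj_zero (x : G) : cj x (0 : ↥(cen P) → ℂ) = 0 := by
  funext c
  unfold cj
  rw [extendByZero_zero]; rfl

theorem cj_neg (x : G) (φ : ↥(cen P) → ℂ) : cj x (-φ) = - cj x φ := by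
  have := cj_smul x (-1 : ℂ) φ
  simpa using this

theorem cj_sub (x : G) (φ φ' : ↥(cen P) → ℂ) : cj x (φ - φ') = cj x φ - cj x φ' := by
  rw [sub_eq_add_neg, cj_add, cj_neg, ← sub_eq_add_neg]

theorem cj_sum {ι : Type*} (x : G) (s : Finset ι) (f : ι → ↥(cen P) → ℂ) :
    cj x (∑ i ∈ s, f i) = ∑ i ∈ s, cj x (f i) := by
  classical
  induction s using Finset.induction_on with
  | empty => simp [cj_zero]
  | insert a s ha ih => rw [Finset.sum_insert ha, Finset.sum_insert ha, cj_add, ih]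

theorem cj_mul_fun {x : G} (hx : x ∈ nor P) (φ φ' : ↥(cen P) → ℂ) :
    cj x (fun c => φ c * φ' c) = fun c => cj x φ c * cj x φ' c := by
  funext c
  rw [cj_apply hx, cj_apply hx, cj_apply hx]

theorem cj_cj {x y : G} (hx : x ∈ nor P) (hy : y ∈ nor P) (φ : ↥(cen P) → ℂ) :
    cj x (cj y φ) = cj (x * y) φ := by
  funext c
  rw [cj_apply hx, cj_apply hy, cj_apply (mul_mem hx hy)]
  congr 1
  apply Subtype.ext
  simp [mul_assoc]

theorem cj_one (φ : ↥(cen P) → ℂ) : cj (1 : G) φ = φ := by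
  funext c
  rw [cj_apply (one_mem _)]
  congr 1
  apply Subtype.ext
  simp

/-- class functions of `C` are invariant under conjugation by elements of `C` -/
theorem cj_of_mem_cen {x : G} (hx : x ∈ cen P) {φ : ↥(cen P) → ℂ}
    (hφ : IsClassFunction ↥(cen P) φ) : cj x φ = φ := by
  funext c
  rw [cj_apply (cen_le_nor hx)]
  have := hφ c (⟨x, hx⟩⁻¹ : ↥(cen P))
  rw [← this]
  congr 1
  apply Subtype.ext
  simp

/-- restrictions of class functions of `G` are `N`-invariant -/
theorem cj_res {x : G} (hx : x ∈ nor P) {X : G → ℂ} (hX : IsClassFunction G X) :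
    cj x (fun c : ↥(cen P) => X c) = fun c : ↥(cen P) => X c := by
  funext c
  rw [cj_apply hx]
  have := hX (c : G) x⁻¹
  rw [inv_inv] at this
  exact this

theorem isClassFunction_cj {x : G} (hx : x ∈ nor P) {φ : ↥(cen P) → ℂ}
    (hφ : IsClassFunction ↥(cen P) φ) : IsClassFunction ↥(cen P) (cj x φ) := by
  intro c d
  rw [cj_apply hx, cj_apply hx]
  have := hφ ⟨x⁻¹ * c * x, conj_mem_cen' hx c.2⟩ ⟨x⁻¹ * d * x, conj_mem_cen' hx d.2⟩
  rw [← this]
  congr 1
  apply Subtype.ext
  simp [mul_assoc]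

variable [Fintype ↥(cen P)] [Fintype ↥(nor P)]

theorem classInner_cj_cj {x : G} (hx : x ∈ nor P) (φ φ' : ↥(cen P) → ℂ) :
    classInner (cj x φ) (cj x φ') = classInner φ φ' := by
  unfold classInner
  congr 1
  rw [cj_eq_comp hx, cj_eq_comp hx]
  exact Fintype.sum_equiv (conjC hx).toEquiv _ _ (fun c => rfl)

theorem classInner_cj_left {x : G} (hx : x ∈ nor P) (φ φ' : ↥(cen P) → ℂ) :
    classInner (cj x φ) φ' = classInner φ (cj x⁻¹ φ') := by
  rw [← classInner_cj_cj (inv_mem hx) (cj x φ) φ', cj_cj (inv_mem hx) hx, inv_mul_cancel, cj_one]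

theorem classInner_cj_right {x : G} (hx : x ∈ nor P) (φ φ' : ↥(cen P) → ℂ) :
    classInner φ (cj x φ') = classInner (cj x⁻¹ φ) φ' := by
  rw [← classInner_cj_cj (inv_mem hx) φ (cj x φ'), cj_cj (inv_mem hx) hx, inv_mul_cancel, cj_one]

theorem isSing_cj {x : G} (hx : x ∈ nor P) {φ : ↥(cen P) → ℂ} (hφ : IsSing φ) :
    IsSing (cj x φ) := by
  intro c hc
  rw [cj_apply hx]
  apply hφ
  simp only
  have := orderOf_conj_eq x⁻¹ (c : G)
  rw [inv_inv] at this
  rw [this]
  exact hc

theorem IsSing.add {φ φ' : ↥(cen P) → ℂ} (hφ : IsSing φ) (hφ' : IsSing φ') : IsSing (φ + φ') := by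
  intro c hc
  rw [Pi.add_apply, hφ c hc, hφ' c hc, add_zero]

theorem IsSing.sub {φ φ' : ↥(cen P) → ℂ} (hφ : IsSing φ) (hφ' : IsSing φ') : IsSing (φ - φ') := by
  intro c hc
  rw [Pi.sub_apply, hφ c hc, hφ' c hc, sub_zero]

theorem IsSing.smul (a : ℂ) {φ : ↥(cen P) → ℂ} (hφ : IsSing φ) : IsSing (a • φ) := by
  intro c hc
  rw [Pi.smul_apply, hφ c hc, smul_zero]

/-- **(I1)** the restriction to `C` of the function induced from a function on `C` vanishing on
`p`-regular elements is the sum of its `N`-conjugates -/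
theorem indFun_apply_of_isSing (h : Star P) {φ : ↥(cen P) → ℂ} (hφ : IsSing φ) (c : ↥(cen P)) :
    indFun (cen P) φ (c : G) = (Nat.card ↥(cen P) : ℂ)⁻¹ * ∑ x : ↥(nor P), cj (x : G) φ c := by
  classical
  unfold indFun
  congr 1
  have hz : ∀ x : G, x ∉ nor P → extendByZero (cen P) φ (x⁻¹ * (c : G) * x) = 0 := by
    intro x hx
    by_cases hm : x⁻¹ * (c : G) * x ∈ cen P
    · rw [extendByZero_of_mem _ _ hm]
      apply hφ
      simp only
      intro hdvd
      have ho := orderOf_conj_eq x⁻¹ (c : G)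
      rw [inv_inv] at ho
      rw [ho] at hdvd
      have hm' : x⁻¹ * (c : G) * x⁻¹⁻¹ ∈ cen P := by rwa [inv_inv]
      have := mem_nor_of_conj h c.2 hdvd hm'
      exact hx (by simpa using inv_mem this)
    · exact extendByZero_of_not_mem _ _ hm
  rw [← Finset.sum_subset (Finset.subset_univ (Finset.univ.filter (fun x : G => x ∈ nor P)))]
  · rw [Finset.sum_subtype (Finset.univ.filter (fun x : G => x ∈ nor P))
      (p := fun x => x ∈ nor P) (by intro x; simp)]
    rfl
  · intro x _ hx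
    apply hz
    simpa using hx

/-- **(I2)** inner products of induced functions -/
theorem classInner_indFun_indFun (h : Star P) (φ : ↥(cen P) → ℂ) {φ' : ↥(cen P) → ℂ}
    (hφ' : IsSing φ') :
    classInner (indFun (cen P) φ) (indFun (cen P) φ') =
      (Nat.card ↥(cen P) : ℂ)⁻¹ * ∑ x : ↥(nor P), classInner φ (cj (x : G) φ') := by
  rw [frobenius_reciprocity _ φ (isClassFunction_indFun _ φ')]
  have : (fun c : ↥(cen P) => indFun (cen P) φ' (c : G)) =
      (Nat.card ↥(cen P) : ℂ)⁻¹ • ∑ x : ↥(nor P), cj (x : G) φ' := by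
    funext c
    rw [indFun_apply_of_isSing h hφ' c, Pi.smul_apply, Finset.sum_apply, smul_eq_mul]
  rw [this, classInner_smul_right, classInner_sum_right]
  congr 1
  simp

/-- induction does not see conjugation by `N` -/
theorem indFun_cj {x : G} (hx : x ∈ nor P) (φ : ↥(cen P) → ℂ) :
    indFun (cen P) (cj x φ) = indFun (cen P) φ := by
  funext g
  unfold indFun
  congr 1
  apply Fintype.sum_equiv (Equiv.mulRight x)
  intro y
  simp only [Equiv.coe_mulRight]
  by_cases hm : y⁻¹ * g * y ∈ cen P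
  · rw [extendByZero_of_mem _ _ hm, cj_apply hx]
    have hm' : (y * x)⁻¹ * g * (y * x) ∈ cen P := by
      have := conj_mem_cen' hx hm
      have e : (y * x)⁻¹ * g * (y * x) = x⁻¹ * (y⁻¹ * g * y) * x := by group
      rwa [e]
    rw [extendByZero_of_mem _ _ hm']
    congr 1
    apply Subtype.ext
    simp only
    group
  · have hm' : (y * x)⁻¹ * g * (y * x) ∉ cen P := by
      intro hcon
      apply hm
      have := conj_mem_cen hx hcon
      have e : x * ((y * x)⁻¹ * g * (y * x)) * x⁻¹ = y⁻¹ * g * y := by group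
      rwa [e] at this
    rw [extendByZero_of_not_mem _ _ hm, extendByZero_of_not_mem _ _ hm']

end Cfsg.Agent.Lib.Helper52.BL
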