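import Mathlib
import Cfsg.Agent.Lib.Helper52.BL.Conj
import Cfsg.Agent.Lib.Helper77.Linear
import Cfsg.Agent.Lib.Helper77.CenterIrr
import Cfsg.Agent.Lib.Helper78.CentralTwist
import Cfsg.Agent.Lib.Helper81.Gallagher

/-!
# Brauer–Leonard set-up: linear characters of `C = P × V` coming from `P`, twisting,
central characters, the action of `N` on the dual of `P`.
-/

set_option autoImplicit false
set_option linter.style.haveILetI false
set_option linter.unusedSectionVars false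
set_option linter.unusedVariables false

namespace Cfsg.Agent.Lib.Helper52.BL

open Cfsg Subgroup
open Cfsg.Agent.Lib.Helper26 Cfsg.Agent.Lib.Helper75
open scoped ComplexConjugate

universe u

variable {G : Type u} [Group G] [Fintype G] {p : ℕ} [Fact p.Prime] {P : Sylow p G}

/-- conjugation by `x ∈ N_G(P)` as an automorphism of `P`: `y ↦ x⁻¹ y x` -/
noncomputable def conjP {x : G} (hx : x ∈ nor P) : ↥(P : Subgroup G) ≃* ↥(P : Subgroup G) where
  toFun y := ⟨x⁻¹ * y * x, conj_mem_P' hx y.2⟩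
  invFun y := ⟨x * y * x⁻¹, conj_mem_P hx y.2⟩
  left_inv y := by apply Subtype.ext; simp [mul_assoc]
  right_inv y := by apply Subtype.ext; simp [mul_assoc]
  map_mul' a b := by apply Subtype.ext; simp [mul_assoc]

/-- the action of `N_G(P)` on the dual group of `P` -/
noncomputable def act (x : ↥(nor P)) (l : ↥(P : Subgroup G) →* ℂˣ) : ↥(P : Subgroup G) →* ℂˣ :=
  l.comp (conjP x.2).toMonoidHom

theorem act_apply (x : ↥(nor P)) (l : ↥(P : Subgroup G) →* ℂˣ) (y : ↥(P : Subgroup G)) :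
    act x l y = l ⟨(x : G)⁻¹ * y * x, conj_mem_P' x.2 y.2⟩ := rfl

theorem act_one (l : ↥(P : Subgroup G) →* ℂˣ) : act (1 : ↥(nor P)) l = l := by
  refine MonoidHom.ext (fun y => ?_)
  rw [act_apply]
  exact congrArg l (Subtype.ext (by simp))

theorem act_mul (x y : ↥(nor P)) (l : ↥(P : Subgroup G) →* ℂˣ) :
    act (x * y) l = act x (act y l) := by
  refine MonoidHom.ext (fun z => ?_)
  rw [act_apply, act_apply, act_apply]
  exact congrArg l (Subtype.ext (by simp [mul_assoc]))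

theorem act_one_right (x : ↥(nor P)) : act x (1 : ↥(P : Subgroup G) →* ℂˣ) = 1 := rfl

theorem act_mul_right (x : ↥(nor P)) (l m : ↥(P : Subgroup G) →* ℂˣ) :
    act x (l * m) = act x l * act x m := rfl

theorem act_inv_right (x : ↥(nor P)) (l : ↥(P : Subgroup G) →* ℂˣ) :
    act x l⁻¹ = (act x l)⁻¹ := rfl

theorem act_injective (x : ↥(nor P)) :
    Function.Injective (act x : (↥(P : Subgroup G) →* ℂˣ) → _) := by
  intro l m hlm
  have := congrArg (act x⁻¹) hlm
  rwa [← act_mul, ← act_mul, inv_mul_cancel, act_one, act_one] at this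

theorem act_ne_one (x : ↥(nor P)) {l : ↥(P : Subgroup G) →* ℂˣ} (hl : l ≠ 1) : act x l ≠ 1 := by
  intro h1
  apply hl
  apply act_injective x
  rw [h1, act_one_right]

theorem act_of_mem_cen {x : ↥(nor P)} (hx : (x : G) ∈ cen P) (l : ↥(P : Subgroup G) →* ℂˣ) :
    act x l = l := by
  refine MonoidHom.ext (fun y => ?_)
  rw [act_apply]
  refine congrArg l (Subtype.ext ?_)
  simp only
  have := mem_centralizer_iff.mp hx y y.2
  rw [mul_assoc, this, inv_mul_cancel_left]

/-- **freeness** of the action on non-principal characters -/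
theorem mem_cen_of_act_eq (h : Star P) {x : ↥(nor P)} {l : ↥(P : Subgroup G) →* ℂˣ}
    (hl : l ≠ 1) (hx : act x l = l) : (x : G) ∈ cen P := by
  by_contra hnc
  apply hl
  apply monoidHom_eq_one_of_conj_invariant h x.2 hnc l
  intro y
  have := congrArg (fun m : ↥(P : Subgroup G) →* ℂˣ => m y) hx
  simpa [act_apply] using this

/-- the linear character of `C = P × V` attached to a character of `P` -/
noncomputable def hatHom (h : Star P) (l : ↥(P : Subgroup G) →* ℂˣ) : ↥(cen P) →* ℂˣ :=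
  l.comp (proj h)

/-- the linear character of `C = P × V` attached to a character of `P`, as a function -/
noncomputable def hat (h : Star P) (l : ↥(P : Subgroup G) →* ℂˣ) : ↥(cen P) → ℂ :=
  fun c => ((l (proj h c) : ℂˣ) : ℂ)

theorem isIrr_hat (h : Star P) (l : ↥(P : Subgroup G) →* ℂˣ) :
    IsIrrCharacter ↥(cen P) (hat h l) :=
  Helper77.isIrrCharacter_of_monoidHom (hatHom h l)

theorem hat_one (h : Star P) : hat h (1 : ↥(P : Subgroup G) →* ℂˣ) = fun _ => 1 := by
  funext c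
  simp [hat]

theorem hat_apply_one (h : Star P) (l : ↥(P : Subgroup G) →* ℂˣ) : hat h l 1 = 1 := by
  simp [hat]

theorem hat_mul (h : Star P) (l m : ↥(P : Subgroup G) →* ℂˣ) (c : ↥(cen P)) :
    hat h (l * m) c = hat h l c * hat h m c := by
  simp [hat]

theorem hat_coe (h : Star P) (l : ↥(P : Subgroup G) →* ℂˣ) (x : ↥(P : Subgroup G)) :
    hat h l ⟨x, le_cen h x.2⟩ = ((l x : ℂˣ) : ℂ) := by
  unfold hat
  rw [proj_coe]

theorem hat_injective (h : Star P) : Function.Injective (hat h : (↥(P : Subgroup G) →* ℂˣ) → _) := by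
  intro l m hlm
  ext x
  have := congrFun hlm ⟨x, le_cen h x.2⟩
  rwa [hat_coe, hat_coe] at this

theorem hat_regular (h : Star P) (l : ↥(P : Subgroup G) →* ℂˣ) {c : ↥(cen P)}
    (hc : ¬ p ∣ orderOf (c : G)) : hat h l c = 1 := by
  unfold hat
  rw [(proj_eq_one_iff h c).mpr hc, map_one, Units.val_one]

theorem hat_mul_conj (h : Star P) (l : ↥(P : Subgroup G) →* ℂˣ) (c : ↥(cen P)) :
    hat h l c * conj (hat h l c) = 1 :=
  Helper81.monoidHom_units_mul_conj (hatHom h l) c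

theorem cj_hat (h : Star P) (x : ↥(nor P)) (l : ↥(P : Subgroup G) →* ℂˣ) :
    cj (x : G) (hat h l) = hat h (act x l) := by
  funext c
  rw [cj_apply x.2]
  unfold hat
  rw [proj_conj' h x.2 c, act_apply]

/-- twisting a function on `C` by a character of `P` -/
noncomputable def tw (h : Star P) (m : ↥(P : Subgroup G) →* ℂˣ) (ψ : ↥(cen P) → ℂ) :
    ↥(cen P) → ℂ := fun c => hat h m c * ψ c

theorem isIrr_tw (h : Star P) (m : ↥(P : Subgroup G) →* ℂˣ) {ψ : ↥(cen P) → ℂ}
    (hψ : IsIrrCharacter ↥(cen P) ψ) : IsIrrCharacter ↥(cen P) (tw h m ψ) :=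
  Helper81.isIrrCharacter_monoidHom_mul (hatHom h m) hψ

theorem tw_one (h : Star P) (ψ : ↥(cen P) → ℂ) : tw h 1 ψ = ψ := by
  funext c
  unfold tw
  rw [hat_one, one_mul]

theorem tw_tw (h : Star P) (l m : ↥(P : Subgroup G) →* ℂˣ) (ψ : ↥(cen P) → ℂ) :
    tw h l (tw h m ψ) = tw h (l * m) ψ := by
  funext c
  unfold tw
  rw [hat_mul, mul_assoc]

theorem tw_hat (h : Star P) (l m : ↥(P : Subgroup G) →* ℂˣ) :
    tw h l (hat h m) = hat h (l * m) := by
  funext c
  unfold tw
  rw [hat_mul]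

theorem tw_apply_one (h : Star P) (m : ↥(P : Subgroup G) →* ℂˣ) (ψ : ↥(cen P) → ℂ) :
    tw h m ψ 1 = ψ 1 := by
  unfold tw
  rw [hat_apply_one, one_mul]

theorem cj_tw (h : Star P) (x : ↥(nor P)) (m : ↥(P : Subgroup G) →* ℂˣ) (ψ : ↥(cen P) → ℂ) :
    cj (x : G) (tw h m ψ) = tw h (act x m) (cj (x : G) ψ) := by
  unfold tw
  rw [cj_mul_fun x.2, cj_hat]

theorem isSing_sub_tw (h : Star P) (m : ↥(P : Subgroup G) →* ℂˣ) (ψ : ↥(cen P) → ℂ) :
    IsSing (ψ - tw h m ψ) := by
  intro c hc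
  rw [Pi.sub_apply]
  unfold tw
  rw [hat_regular h m hc, one_mul, sub_self]

theorem tw_injective (h : Star P) (m : ↥(P : Subgroup G) →* ℂˣ) :
    Function.Injective (tw h m) := by
  intro ψ ψ' hh
  have := congrArg (tw h m⁻¹) hh
  have e : m⁻¹ * m = 1 := inv_mul_cancel m
  rwa [tw_tw, tw_tw, e, tw_one, tw_one] at this

variable [Fintype ↥(cen P)]

theorem classInner_tw_tw (h : Star P) (m : ↥(P : Subgroup G) →* ℂˣ) (φ φ' : ↥(cen P) → ℂ) :
    classInner (tw h m φ) (tw h m φ') = classInner φ φ' := by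
  unfold classInner
  congr 1
  apply Finset.sum_congr rfl
  intro c _
  unfold tw
  rw [map_mul]
  calc hat h m c * φ c * (conj (hat h m c) * conj (φ' c))
      = (hat h m c * conj (hat h m c)) * (φ c * conj (φ' c)) := by ring
    _ = φ c * conj (φ' c) := by rw [hat_mul_conj, one_mul]

/-! ### central characters -/

theorem coe_mem_center (h : Star P) (x : ↥(P : Subgroup G)) :
    (⟨x, le_cen h x.2⟩ : ↥(cen P)) ∈ Subgroup.center ↥(cen P) := by
  rw [Subgroup.mem_center_iff]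
  intro c
  apply Subtype.ext
  simp only [Subgroup.coe_mul]
  exact (mem_centralizer_iff.mp c.2 x x.2).symm

theorem exists_cchar (h : Star P) {ψ : ↥(cen P) → ℂ} (hψ : IsIrrCharacter ↥(cen P) ψ) :
    ∃ l : ↥(P : Subgroup G) →* ℂˣ, ∀ (x : ↥(P : Subgroup G)) (c : ↥(cen P)),
      ψ (⟨x, le_cen h x.2⟩ * c) = ((l x : ℂˣ) : ℂ) * ψ c := by
  let ψ' : IrrCharacter ↥(cen P) := ⟨ψ, hψ⟩
  let ι : ↥(P : Subgroup G) →* ↥(Helper77.irrCenter ψ') :=
    { toFun := fun x => ⟨⟨x, le_cen h x.2⟩,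
        Helper78.center_le_irrCenter ψ' (coe_mem_center h x)⟩
      map_one' := by apply Subtype.ext; apply Subtype.ext; rfl
      map_mul' := fun a b => by apply Subtype.ext; apply Subtype.ext; rfl }
  refine ⟨((Helper77.irrCenterScalar ψ').comp ι).toHomUnits, fun x c => ?_⟩
  rw [MonoidHom.coe_toHomUnits]
  exact Helper77.irr_center_mul ψ' (ι x) c

/-- the central character (restricted to `P`) of an irreducible character of `C` (junk value `1`
for other functions) -/
noncomputable def cchar (h : Star P) (ψ : ↥(cen P) → ℂ) : ↥(P : Subgroup G) →* ℂˣ := by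
  classical
  exact if hψ : IsIrrCharacter ↥(cen P) ψ then (exists_cchar h hψ).choose else 1

theorem cchar_mul (h : Star P) {ψ : ↥(cen P) → ℂ} (hψ : IsIrrCharacter ↥(cen P) ψ)
    (x : ↥(P : Subgroup G)) (c : ↥(cen P)) :
    ψ (⟨x, le_cen h x.2⟩ * c) = ((cchar h ψ x : ℂˣ) : ℂ) * ψ c := by
  unfold cchar
  rw [dif_pos hψ]
  exact (exists_cchar h hψ).choose_spec x c

theorem cchar_unique (h : Star P) {ψ : ↥(cen P) → ℂ} (hψ : IsIrrCharacter ↥(cen P) ψ)
    (l : ↥(P : Subgroup G) →* ℂˣ)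
    (hl : ∀ (x : ↥(P : Subgroup G)), ψ ⟨x, le_cen h x.2⟩ = ((l x : ℂˣ) : ℂ) * ψ 1) :
    cchar h ψ = l := by
  ext x
  have h1 := cchar_mul h hψ x 1
  rw [mul_one, hl x] at h1
  exact (mul_right_cancel₀ (Helper78.IsIrrCharacter.apply_one_ne_zero hψ) h1).symm

theorem cchar_hat (h : Star P) (l : ↥(P : Subgroup G) →* ℂˣ) : cchar h (hat h l) = l := by
  apply cchar_unique h (isIrr_hat h l)
  intro x
  rw [hat_coe, hat_apply_one, mul_one]

theorem cchar_tw (h : Star P) (m : ↥(P : Subgroup G) →* ℂˣ) {ψ : ↥(cen P) → ℂ}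
    (hψ : IsIrrCharacter ↥(cen P) ψ) : cchar h (tw h m ψ) = m * cchar h ψ := by
  apply cchar_unique h (isIrr_tw h m hψ)
  intro x
  unfold tw
  have := cchar_mul h hψ x 1
  rw [mul_one] at this
  rw [hat_coe, hat_apply_one, this, MonoidHom.mul_apply, Units.val_mul]
  ring

theorem cchar_cj (h : Star P) (x : ↥(nor P)) {ψ : ↥(cen P) → ℂ}
    (hψ : IsIrrCharacter ↥(cen P) ψ) : cchar h (cj (x : G) ψ) = act x (cchar h ψ) := by
  apply cchar_unique h (isIrrCharacter_cj x.2 hψ)
  intro y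
  rw [cj_apply x.2, cj_apply x.2, act_apply]
  have := cchar_mul h hψ ⟨(x : G)⁻¹ * y * x, conj_mem_P' x.2 y.2⟩ 1
  rw [mul_one] at this
  have e1 : (⟨(x : G)⁻¹ * ((1 : ↥(cen P)) : G) * x, conj_mem_cen' x.2 (1 : ↥(cen P)).2⟩ : ↥(cen P))
      = 1 := by
    apply Subtype.ext; simp
  rw [e1, ← this]

/-- **Fact III**: the stabilizer in `N` of an irreducible character of `C` not trivial on `P`
is `C` -/
theorem mem_cen_of_cj_eq (h : Star P) {x : ↥(nor P)} {ψ : ↥(cen P) → ℂ}
    (hψ : IsIrrCharacter ↥(cen P) ψ) (hne : cchar h ψ ≠ 1) (hx : cj (x : G) ψ = ψ) :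
    (x : G) ∈ cen P := by
  apply mem_cen_of_act_eq h hne
  rw [← cchar_cj h x hψ, hx]

/-- an irreducible character of `C` is the twist of a `P`-trivial one -/
theorem tw_cchar_inv (h : Star P) {ψ : ↥(cen P) → ℂ} (hψ : IsIrrCharacter ↥(cen P) ψ) :
    cchar h (tw h (cchar h ψ)⁻¹ ψ) = 1 := by
  rw [cchar_tw h _ hψ]
  exact inv_mul_cancel (cchar h ψ)

/-- a `P`-trivial irreducible character is constant on cosets of `P` -/
theorem apply_coe_of_cchar_eq_one (h : Star P) {ψ : ↥(cen P) → ℂ}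
    (hψ : IsIrrCharacter ↥(cen P) ψ) (h1 : cchar h ψ = 1) (x : ↥(P : Subgroup G)) :
    ψ ⟨x, le_cen h x.2⟩ = ψ 1 := by
  have := cchar_mul h hψ x 1
  rw [mul_one, h1] at this
  simpa using this

/-- a `P`-trivial linear character `hat l` has `l = 1` -/
theorem eq_hat_of_tw_eq_hat (h : Star P) {ψ : ↥(cen P) → ℂ} (hψ : IsIrrCharacter ↥(cen P) ψ)
    (h1 : cchar h ψ = 1) {m l : ↥(P : Subgroup G) →* ℂˣ} (he : tw h m ψ = hat h l) :
    ψ = fun _ => 1 := by
  have h2 : cchar h (tw h m ψ) = m := by rw [cchar_tw h m hψ, h1]; exact mul_one m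
  rw [he, cchar_hat] at h2
  rw [h2] at he
  have : tw h m ψ = tw h m (fun _ => 1) := by
    rw [he, ← hat_one h, tw_hat]
    exact congrArg (hat h) (mul_one m).symm
  exact tw_injective h m this

end Cfsg.Agent.Lib.Helper52.BL
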