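import Mathlib
import Cfsg.Agent.Lib.Helper52.BL.Lin
import Cfsg.Agent.Lib.Helper52.BL.Gen
import Cfsg.Agent.Lib.Helper78.FiniteAbelianDual

/-!
# Brauer–Leonard set-up: sums over `N`, orbits of `N` on the dual of `P`.
-/

set_option autoImplicit false
set_option linter.style.haveILetI false
set_option linter.unusedSectionVars false
set_option linter.unusedVariables false

namespace Cfsg.Agent.Lib.Helper52.BL

open Cfsg Subgroup
open Cfsg.Agent.Lib.Helper26 Cfsg.Agent.Lib.Helper75
open scoped ComplexConjugate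

universe u

variable {G : Type u} [Group G] [Fintype G] {p : ℕ} [Fact p.Prime] {P : Sylow p G}

/-- the index `t = |N_G(P) : C_G(P)|` -/
noncomputable def tt (P : Sylow p G) : ℕ := (cen P).relIndex (nor P)

theorem tt_mul_card : tt P * Nat.card ↥(cen P) = Nat.card ↥(nor P) := by
  unfold tt Subgroup.relIndex
  rw [← Nat.card_congr (Subgroup.subgroupOfEquivOfLe (cen_le_nor (P := P))).toEquiv]
  exact Subgroup.index_mul_card _

theorem tt_pos : 0 < tt P := by
  have h1 := tt_mul_card (P := P)
  have h2 : 0 < Nat.card ↥(nor P) := Nat.card_pos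
  rcases Nat.eq_zero_or_pos (tt P) with h0 | h0
  · rw [h0, zero_mul] at h1; omega
  · exact h0

variable [Fintype ↥(cen P)] [Fintype ↥(nor P)]

theorem card_filter_mem_cen [DecidablePred fun x : ↥(nor P) => (x : G) ∈ cen P] :
    (Finset.univ.filter (fun x : ↥(nor P) => (x : G) ∈ cen P)).card = Nat.card ↥(cen P) := by
  have e : {x : ↥(nor P) // (x : G) ∈ cen P} ≃ ↥(cen P) :=
    { toFun := fun x => ⟨x.1.1, x.2⟩
      invFun := fun c => ⟨⟨c.1, cen_le_nor c.2⟩, c.2⟩
      left_inv := fun x => rfl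
      right_inv := fun c => rfl }
  rw [← Nat.card_congr e, Nat.card_eq_fintype_card, Fintype.card_subtype]

theorem card_filter_coset [DecidablePred fun x : ↥(nor P) => (x : G) ∈ cen P]
    (x₀ : ↥(nor P)) [DecidablePred fun x : ↥(nor P) => ((x₀⁻¹ * x : ↥(nor P)) : G) ∈ cen P] :
    (Finset.univ.filter (fun x : ↥(nor P) => ((x₀⁻¹ * x : ↥(nor P)) : G) ∈ cen P)).card =
      Nat.card ↥(cen P) := by
  rw [← card_filter_mem_cen (P := P)]
  apply Finset.card_equiv (Equiv.mulLeft x₀⁻¹)
  intro x
  simp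

theorem classInner_irr_cj {ψ ψ' : ↥(cen P) → ℂ} (hψ : IsIrrCharacter ↥(cen P) ψ)
    (hψ' : IsIrrCharacter ↥(cen P) ψ') (x : ↥(nor P))
    [Decidable (ψ = cj (x : G) ψ')] :
    classInner ψ (cj (x : G) ψ') = if ψ = cj (x : G) ψ' then 1 else 0 := by
  rw [Helper78.classInner_irr hψ (isIrrCharacter_cj x.2 hψ')]
  congr

open Classical in
theorem sumN_irr {ψ ψ' : ↥(cen P) → ℂ} (hψ : IsIrrCharacter ↥(cen P) ψ)
    (hψ' : IsIrrCharacter ↥(cen P) ψ') :
    ∑ x : ↥(nor P), classInner ψ (cj (x : G) ψ') =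
      ((Finset.univ.filter (fun x : ↥(nor P) => ψ = cj (x : G) ψ')).card : ℂ) := by
  rw [Finset.sum_congr rfl (fun x _ => classInner_irr_cj hψ hψ' x), Finset.sum_boole]

open Classical in
/-- `∑_{x ∈ N} ⟨ψ, ψ^x⟩ = |C|` when the stabilizer of `ψ` in `N` is `C` -/
theorem sumN_self {ψ : ↥(cen P) → ℂ} (hψ : IsIrrCharacter ↥(cen P) ψ)
    (hstab : ∀ x : ↥(nor P), cj (x : G) ψ = ψ → (x : G) ∈ cen P) :
    ∑ x : ↥(nor P), classInner ψ (cj (x : G) ψ) = (Nat.card ↥(cen P) : ℂ) := by
  rw [sumN_irr hψ hψ, ← card_filter_mem_cen (P := P)]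
  congr 2
  ext x
  simp only [Finset.mem_filter, Finset.mem_univ, true_and]
  constructor
  · intro hx
    exact hstab x hx.symm
  · intro hx
    exact (cj_of_mem_cen hx (Helper78.IsCharacter.isClassFunction
      (Helper78.IsIrrCharacter.isCharacter hψ))).symm

open Classical in
/-- `∑_{x ∈ N} ⟨ψ, ψ^x⟩` is a natural number between `|C|` and `|N|` -/
theorem sumN_self_bound {ψ : ↥(cen P) → ℂ} (hψ : IsIrrCharacter ↥(cen P) ψ) :
    ∃ n : ℕ, n ≤ Nat.card ↥(nor P) ∧
      ∑ x : ↥(nor P), classInner ψ (cj (x : G) ψ) = (n : ℂ) := by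
  refine ⟨_, ?_, sumN_irr hψ hψ⟩
  rw [Nat.card_eq_fintype_card]
  exact Finset.card_le_univ _

theorem sumN_nat {ψ ψ' : ↥(cen P) → ℂ} (hψ : IsIrrCharacter ↥(cen P) ψ)
    (hψ' : IsIrrCharacter ↥(cen P) ψ') :
    ∃ n : ℕ, ∑ x : ↥(nor P), classInner ψ (cj (x : G) ψ') = (n : ℂ) := by
  classical
  exact ⟨_, sumN_irr hψ hψ'⟩

/-- characters with different `P`-type are never `N`-conjugate -/
theorem classInner_cj_eq_zero_of_cchar (h : Star P) {ψ ψ' : ↥(cen P) → ℂ}
    (hψ : IsIrrCharacter ↥(cen P) ψ) (hψ' : IsIrrCharacter ↥(cen P) ψ')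
    (hc : cchar h ψ = 1) (hc' : cchar h ψ' ≠ 1) (x : ↥(nor P)) :
    classInner ψ (cj (x : G) ψ') = 0 := by
  classical
  rw [classInner_irr_cj hψ hψ' x, if_neg]
  intro he
  have := cchar_cj h x hψ'
  rw [← he, hc] at this
  exact act_ne_one x hc' this.symm

theorem classInner_cj_eq_zero_of_cchar' (h : Star P) {ψ ψ' : ↥(cen P) → ℂ}
    (hψ : IsIrrCharacter ↥(cen P) ψ) (hψ' : IsIrrCharacter ↥(cen P) ψ')
    (hc : cchar h ψ = 1) (hc' : cchar h ψ' ≠ 1) (x : ↥(nor P)) :
    classInner ψ' (cj (x : G) ψ) = 0 := by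
  rw [classInner_cj_right x.2]
  rw [← classInner_conj_symm]
  have := classInner_cj_eq_zero_of_cchar h hψ hψ' hc hc' x⁻¹
  simp only [Subgroup.coe_inv] at this
  rw [this, map_zero]

/-! ### the dual of `P` -/

/-- `P` is abelian -/
@[reducible] noncomputable def commGroupP (h : Star P) : CommGroup ↥(P : Subgroup G) :=
  { (inferInstance : Group ↥(P : Subgroup G)) with
    mul_comm := fun a b => Subtype.ext (commute_of_mem h a.2 b.2) }

theorem finite_dual (h : Star P) : Finite (↥(P : Subgroup G) →* ℂˣ) := by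
  letI := commGroupP h
  haveI : Fintype ↥(P : Subgroup G) := Fintype.ofFinite _
  haveI := Helper78.hasEnoughRoots_exponent (A := ↥(P : Subgroup G))
  infer_instance

theorem card_dual (h : Star P) :
    Nat.card (↥(P : Subgroup G) →* ℂˣ) = Nat.card ↥(P : Subgroup G) := by
  letI := commGroupP h
  haveI : Fintype ↥(P : Subgroup G) := Fintype.ofFinite _
  haveI := Helper78.hasEnoughRoots_exponent (A := ↥(P : Subgroup G))
  exact CommGroup.card_monoidHom_of_hasEnoughRootsOfUnity ↥(P : Subgroup G) ℂ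

/-- the non-principal characters of `P` -/
abbrev Lam (P : Sylow p G) : Type u := {l : ↥(P : Subgroup G) →* ℂˣ // l ≠ 1}

theorem finite_lam (h : Star P) : Finite (Lam P) := by
  haveI := finite_dual h
  infer_instance

theorem card_lam (h : Star P) : Nat.card (Lam P) + 1 = Nat.card ↥(P : Subgroup G) := by
  classical
  haveI := finite_dual h
  rw [← card_dual h]
  haveI : Fintype (↥(P : Subgroup G) →* ℂˣ) := Fintype.ofFinite _
  rw [Nat.card_eq_fintype_card, Nat.card_eq_fintype_card, Fintype.card_subtype_compl,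
    Fintype.card_subtype_eq]
  have : 0 < Fintype.card (↥(P : Subgroup G) →* ℂˣ) := Fintype.card_pos
  omega

/-- the orbit relation of `N` on the non-principal characters of `P` -/
def orbSetoid (P : Sylow p G) : Setoid (Lam P) where
  r l m := ∃ x : ↥(nor P), act x l.1 = m.1
  iseqv :=
    ⟨fun l => ⟨1, act_one _⟩,
     fun {l m} ⟨x, hx⟩ => ⟨x⁻¹, by rw [← hx, ← act_mul, inv_mul_cancel, act_one]⟩,
     fun {l m n} ⟨x, hx⟩ ⟨y, hy⟩ => ⟨y * x, by rw [act_mul, hx, hy]⟩⟩

/-- orbit representatives for the action of `N` on the non-principal characters of `P` -/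
structure OrbitData (P : Sylow p G) where
  /-- number of orbits -/
  w : ℕ
  /-- representatives -/
  r : Fin w → Lam P
  /-- the orbit of a character -/
  o : Lam P → Fin w
  o_r : ∀ i, o (r i) = i
  ex : ∀ l : Lam P, ∃ x : ↥(nor P), act x (r (o l)).1 = l.1
  o_act : ∀ (l m : Lam P) (x : ↥(nor P)), act x l.1 = m.1 → o m = o l

theorem exists_orbitData (h : Star P) : Nonempty (OrbitData P) := by
  classical
  haveI := finite_lam h
  haveI : Fintype (Quotient (orbSetoid P)) := Fintype.ofFinite _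
  let e := Fintype.equivFin (Quotient (orbSetoid P))
  refine ⟨{ w := Fintype.card (Quotient (orbSetoid P))
            r := fun i => (e.symm i).out
            o := fun l => e (Quotient.mk (orbSetoid P) l)
            o_r := ?_, ex := ?_, o_act := ?_ }⟩
  · intro i
    show e (Quotient.mk (orbSetoid P) (e.symm i).out) = i
    rw [Quotient.out_eq, Equiv.apply_symm_apply]
  · intro l
    show ∃ x : ↥(nor P), act x ((e.symm (e (Quotient.mk (orbSetoid P) l))).out).1 = l.1
    rw [Equiv.symm_apply_apply]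
    exact Quotient.exact (s := orbSetoid P) (Quotient.out_eq (Quotient.mk (orbSetoid P) l))
  · intro l m x hx
    show e (Quotient.mk (orbSetoid P) m) = e (Quotient.mk (orbSetoid P) l)
    congr 1
    exact (Quotient.sound (s := orbSetoid P) ⟨x, hx⟩).symm

open Classical in
theorem card_filter_act_eq (h : Star P) (D : OrbitData P) (i : Fin D.w) (l : Lam P) :
    (Finset.univ.filter (fun x : ↥(nor P) => act x (D.r i).1 = l.1)).card =
      if D.o l = i then Nat.card ↥(cen P) else 0 := by
  split_ifs with hi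
  · obtain ⟨x₀, hx₀⟩ := D.ex l
    rw [hi] at hx₀
    rw [← card_filter_coset (P := P) x₀]
    congr 1
    ext x
    simp only [Finset.mem_filter, Finset.mem_univ, true_and]
    constructor
    · intro hx
      apply mem_cen_of_act_eq h (D.r i).2
      rw [act_mul, hx, ← hx₀, ← act_mul, inv_mul_cancel, act_one]
    · intro hx
      have := act_of_mem_cen hx (D.r i).1
      rw [← hx₀]
      conv_rhs => rw [← this, ← act_mul, mul_inv_cancel_left]
  · rw [Finset.card_eq_zero, Finset.filter_eq_empty_iff]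
    intro x _ hx
    apply hi
    rw [D.o_act (D.r i) l x hx, D.o_r]

open Classical in
theorem card_fiber (h : Star P) (D : OrbitData P) [Fintype (Lam P)] (i : Fin D.w) :
    (Finset.univ.filter (fun l : Lam P => D.o l = i)).card = tt P := by
  have h1 : (Finset.univ : Finset ↥(nor P)).card =
      ∑ l : Lam P, (Finset.univ.filter (fun x : ↥(nor P) =>
        (⟨act x (D.r i).1, act_ne_one x (D.r i).2⟩ : Lam P) = l)).card :=
    Finset.card_eq_sum_card_fiberwise (fun x _ => Finset.mem_univ _)
  have h2 : ∀ l : Lam P, (Finset.univ.filter (fun x : ↥(nor P) =>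
        (⟨act x (D.r i).1, act_ne_one x (D.r i).2⟩ : Lam P) = l)).card =
      if D.o l = i then Nat.card ↥(cen P) else 0 := by
    intro l
    rw [← card_filter_act_eq h D i l]
    congr 1
    ext x
    simp only [Finset.mem_filter, Finset.mem_univ, true_and]
    exact Subtype.ext_iff
  rw [Finset.sum_congr rfl (fun l _ => h2 l), Finset.sum_ite, Finset.sum_const_zero, add_zero,
    Finset.sum_const, smul_eq_mul, Finset.card_univ, ← Nat.card_eq_fintype_card,
    ← tt_mul_card] at h1
  have hpos : 0 < Nat.card ↥(cen P) := Nat.card_pos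
  exact (Nat.eq_of_mul_eq_mul_right hpos h1).symm

theorem w_mul_tt (h : Star P) (D : OrbitData P) :
    D.w * tt P + 1 = Nat.card ↥(P : Subgroup G) := by
  classical
  haveI := finite_lam h
  haveI : Fintype (Lam P) := Fintype.ofFinite _
  rw [← card_lam h, Nat.card_eq_fintype_card]
  congr 1
  have h1 : (Finset.univ : Finset (Lam P)).card =
      ∑ i : Fin D.w, (Finset.univ.filter (fun l : Lam P => D.o l = i)).card :=
    Finset.card_eq_sum_card_fiberwise (fun x _ => Finset.mem_univ _)
  rw [Finset.sum_congr rfl (fun i _ => card_fiber h D i), Finset.sum_const, smul_eq_mul,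
    Finset.card_univ, Finset.card_univ, Fintype.card_fin] at h1
  exact h1.symm

/-! ### sums over `N` of inner products of linear characters -/

/-- restriction to `C_G(P)` -/
def res (P : Sylow p G) (X : G → ℂ) : ↥(cen P) → ℂ := fun c => X c

theorem classInner_hat_hat (h : Star P) (l m : ↥(P : Subgroup G) →* ℂˣ) [Decidable (l = m)] :
    classInner (hat h l) (hat h m) = if l = m then 1 else 0 := by
  classical
  rw [Helper78.classInner_irr (isIrr_hat h l) (isIrr_hat h m)]
  by_cases hlm : l = m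
  · rw [if_pos hlm, if_pos (by rw [hlm])]
  · rw [if_neg hlm, if_neg (fun he => hlm (hat_injective h he))]

theorem sumN_hat (h : Star P) (D : OrbitData P) (i : Fin D.w) (l : Lam P) :
    ∑ x : ↥(nor P), classInner (hat h l.1) (cj (x : G) (hat h (D.r i).1)) =
      if D.o l = i then (Nat.card ↥(cen P) : ℂ) else 0 := by
  classical
  have h1 : ∀ x : ↥(nor P), classInner (hat h l.1) (cj (x : G) (hat h (D.r i).1)) =
      if act x (D.r i).1 = l.1 then 1 else 0 := by
    intro x
    rw [cj_hat, classInner_hat_hat]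
    by_cases he : act x (D.r i).1 = l.1
    · rw [if_pos he, if_pos he.symm]
    · rw [if_neg he, if_neg (fun h' => he h'.symm)]
  rw [Finset.sum_congr rfl (fun x _ => h1 x), Finset.sum_boole, card_filter_act_eq h D i l]
  split_ifs <;> simp

theorem sumN_hat_lam (h : Star P) (D : OrbitData P) (l m : Lam P) :
    ∑ x : ↥(nor P), classInner (hat h l.1) (cj (x : G) (hat h m.1)) =
      if D.o l = D.o m then (Nat.card ↥(cen P) : ℂ) else 0 := by
  obtain ⟨y, hy⟩ := D.ex m
  rw [← sumN_hat h D (D.o m) l]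
  -- reindex the sum by `x ↦ x * y`
  apply Fintype.sum_equiv (Equiv.mulRight y)
  intro x
  simp only [Equiv.coe_mulRight]
  rw [cj_hat, cj_hat, act_mul, hy]

theorem classInner_one_hat (h : Star P) (l : Lam P) :
    classInner (fun _ : ↥(cen P) => (1 : ℂ)) (hat h l.1) = 0 := by
  classical
  rw [← hat_one h, classInner_hat_hat, if_neg (fun he => l.2 he.symm)]

theorem classInner_hat_one (h : Star P) (l : Lam P) :
    classInner (hat h l.1) (fun _ : ↥(cen P) => (1 : ℂ)) = 0 := by
  classical
  rw [← hat_one h, classInner_hat_hat, if_neg l.2]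

theorem cj_one_fun (x : ↥(nor P)) :
    cj (x : G) (fun _ : ↥(cen P) => (1 : ℂ)) = fun _ => 1 := by
  funext c
  rw [cj_apply x.2]

theorem classInner_one_one : classInner (fun _ : ↥(cen P) => (1 : ℂ)) (fun _ => 1) = 1 :=
  Helper78.classInner_irr_self Helper78.isIrrCharacter_one

end Cfsg.Agent.Lib.Helper52.BL
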