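import Mathlib
import Cfsg.Agent.Lib.Helper52.BL.Sums
import Cfsg.Agent.Lib.Helper80.CharBasic

/-!
# Brauer–Leonard, step 2: the restriction to `C` of an irreducible character of small degree.
-/

set_option autoImplicit false
set_option linter.style.haveILetI false
set_option linter.unusedSectionVars false
set_option linter.unusedVariables false

namespace Cfsg.Agent.Lib.Helper52.BL

open Cfsg Subgroup
open Cfsg.Agent.Lib.Helper26 Cfsg.Agent.Lib.Helper75
open scoped ComplexConjugate

universe u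

variable {G : Type u} [Group G] [Fintype G] {p : ℕ} [Fact p.Prime] {P : Sylow p G}

open Classical in
/-- the `p`-singular part of the restriction to `C` -/
noncomputable def sing (P : Sylow p G) (X : G → ℂ) : ↥(cen P) → ℂ :=
  fun c => if p ∣ orderOf (c : G) then X c else 0

theorem isSing_sing (X : G → ℂ) : IsSing (sing P X) := by
  intro c hc
  unfold sing
  rw [if_neg hc]

theorem cj_sing {x : G} (hx : x ∈ nor P) {X : G → ℂ} (hX : IsClassFunction G X) :
    cj x (sing P X) = sing P X := by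
  funext c
  rw [cj_apply hx]
  unfold sing
  simp only
  have ho := orderOf_conj_eq x⁻¹ (c : G)
  rw [inv_inv] at ho
  rw [ho]
  have := hX (c : G) x⁻¹
  rw [inv_inv] at this
  rw [this]

theorem isClassFunction_res {X : G → ℂ} (hX : IsClassFunction G X) :
    IsClassFunction ↥(cen P) (res P X) := by
  intro c d
  exact hX (c : G) (d : G)

theorem cj_res' {x : G} (hx : x ∈ nor P) {X : G → ℂ} (hX : IsClassFunction G X) :
    cj x (res P X) = res P X := cj_res hx hX

theorem isCharacter_res' {X : G → ℂ} (hX : IsCharacter G X) : IsCharacter ↥(cen P) (res P X) :=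
  isCharacter_res (cen P) hX

variable [Fintype ↥(cen P)] [Fintype ↥(nor P)]

theorem card_nor_eq : (Nat.card ↥(nor P) : ℂ) = (tt P : ℂ) * (Nat.card ↥(cen P) : ℂ) := by
  rw [← tt_mul_card]; push_cast; ring

theorem card_cen_ne_zero : (Nat.card ↥(cen P) : ℂ) ≠ 0 := by
  have : Nat.card ↥(cen P) ≠ 0 := Nat.card_pos.ne'
  exact_mod_cast this

/-- the multiplicity in `X|_C` is `N`-invariant -/
theorem classInner_res_cj {X : G → ℂ} (hX : IsClassFunction G X) (x : ↥(nor P))
    (ψ : ↥(cen P) → ℂ) : classInner (res P X) (cj (x : G) ψ) = classInner (res P X) ψ := by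
  rw [classInner_cj_right x.2, cj_res' (inv_mem x.2) hX]

theorem classInner_sing_res (X : G → ℂ) :
    classInner (sing P X) (res P X) = classInner (sing P X) (sing P X) := by
  unfold classInner
  congr 1
  apply Finset.sum_congr rfl
  intro c _
  unfold sing res
  split_ifs <;> simp

/-- **(I4)** the singular part of `X|_C` has norm less than `t` -/
theorem sigma_lt (h : Star P) {X : G → ℂ} (hX : IsIrrCharacter G X) :
    (classInner (sing P X) (sing P X)).re < (tt P : ℝ) := by
  have hcl : IsClassFunction G X :=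
    Helper78.IsCharacter.isClassFunction (Helper78.IsIrrCharacter.isCharacter hX)
  set σ : ℝ := (classInner (sing P X) (sing P X)).re with hσ
  have hσc : classInner (sing P X) (sing P X) = (σ : ℂ) := classInner_self_eq_re _
  have hσ0 : 0 ≤ σ := classInner_self_re_nonneg _
  set A : G → ℂ := indFun (cen P) (sing P X) with hA
  have h1 : classInner A X = (σ : ℂ) := by
    rw [hA, frobenius_reciprocity _ _ hcl]
    exact (classInner_sing_res X).trans hσc
  have h2 : classInner A A = ((tt P : ℝ) * σ : ℝ) := by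
    rw [hA, classInner_indFun_indFun h _ (isSing_sing X)]
    rw [Finset.sum_congr rfl (fun x _ => by rw [cj_sing x.2 hcl]), Finset.sum_const,
      Finset.card_univ, nsmul_eq_mul, hσc, ← Nat.card_eq_fintype_card, card_nor_eq]
    push_cast
    field_simp [card_cen_ne_zero (P := P)]
  by_contra hcon
  push Not at hcon
  have htpos : (0 : ℝ) < tt P := by exact_mod_cast tt_pos (P := P)
  have h3 : A = ∑ _k : Unit, (σ : ℂ) • X := by
    apply bessel_eq A (fun _ : Unit => X) (fun _ => hX) (fun _ _ _ => Subsingleton.elim _ _)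
      (fun _ => σ) (fun _ => h1)
    rw [h2, Complex.ofReal_re]
    simp only [Finset.univ_unique, Finset.sum_singleton]
    nlinarith
  have h4 : A 1 = 0 := by
    rw [hA, indFun_one]
    have : sing P X 1 = 0 := by
      apply isSing_sing X
      simp only [OneMemClass.coe_one, orderOf_one, Nat.dvd_one]
      exact (Fact.out : p.Prime).one_lt.ne'
    rw [this, mul_zero]
  rw [h3] at h4
  simp only [Finset.univ_unique, Finset.sum_singleton, Pi.smul_apply, smul_eq_mul] at h4
  rcases mul_eq_zero.mp h4 with h5 | h5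
  · have : σ = 0 := by exact_mod_cast h5
    linarith
  · exact Helper78.IsIrrCharacter.apply_one_ne_zero hX h5

open Classical in
/-- the `p`-regular part of `X|_C` has small norm -/
theorem regular_part_le (h : Star P) {X : G → ℂ} (hX : IsCharacter G X) :
    (classInner (res P X - sing P X) (res P X - sing P X)).re *
      (Nat.card ↥(P : Subgroup G) : ℝ) ≤ (charDegree X : ℝ) ^ 2 := by
  rw [classInner_self_eq_sum, Complex.ofReal_re]
  have hb : ∀ c : ↥(cen P), Complex.normSq ((res P X - sing P X) c) ≤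
      if p ∣ orderOf (c : G) then 0 else (charDegree X : ℝ) ^ 2 := by
    intro c
    rw [Pi.sub_apply]
    unfold sing res
    split_ifs with hc
    · simp
    · rw [sub_zero, Complex.normSq_eq_norm_sq]
      have := Helper80.norm_char_le hX (c : G)
      have h0 : 0 ≤ ‖X (c : G)‖ := norm_nonneg _
      nlinarith
  have h1 : ∑ c : ↥(cen P), Complex.normSq ((res P X - sing P X) c) ≤
      ((Finset.univ.filter (fun c : ↥(cen P) => ¬ p ∣ orderOf (c : G))).card : ℝ) *
        (charDegree X : ℝ) ^ 2 := by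
    refine (Finset.sum_le_sum (fun c _ => hb c)).trans ?_
    rw [Finset.sum_ite, Finset.sum_const_zero, zero_add, Finset.sum_const, nsmul_eq_mul]
  have h2 : (Finset.univ.filter (fun c : ↥(cen P) => ¬ p ∣ orderOf (c : G))).card *
      Nat.card ↥(P : Subgroup G) = Nat.card ↥(cen P) := by
    rw [← card_regular_mul_card h (proj h) (proj_coe h) (proj_eq_one_iff h),
      Nat.card_eq_fintype_card (α := {c : ↥(cen P) // ¬ p ∣ orderOf (c : G)}),
      Fintype.card_subtype]
  have h2' : ((Finset.univ.filter (fun c : ↥(cen P) => ¬ p ∣ orderOf (c : G))).card : ℝ) *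
      (Nat.card ↥(P : Subgroup G) : ℝ) = (Nat.card ↥(cen P) : ℝ) := by exact_mod_cast h2
  have hC : (0 : ℝ) < Nat.card ↥(cen P) := by exact_mod_cast Nat.card_pos
  have hq : (0 : ℝ) ≤ Nat.card ↥(P : Subgroup G) := Nat.cast_nonneg _
  calc ((Nat.card ↥(cen P) : ℝ)⁻¹ * ∑ c : ↥(cen P), Complex.normSq ((res P X - sing P X) c)) *
        (Nat.card ↥(P : Subgroup G) : ℝ)
      ≤ (Nat.card ↥(cen P) : ℝ)⁻¹ *
        (((Finset.univ.filter (fun c : ↥(cen P) => ¬ p ∣ orderOf (c : G))).card : ℝ) *
          (charDegree X : ℝ) ^ 2) * (Nat.card ↥(P : Subgroup G) : ℝ) := by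
        apply mul_le_mul_of_nonneg_right _ hq
        exact mul_le_mul_of_nonneg_left h1 (inv_nonneg.mpr hC.le)
    _ = (Nat.card ↥(cen P) : ℝ)⁻¹ * (Nat.card ↥(cen P) : ℝ) * (charDegree X : ℝ) ^ 2 := by
        rw [← h2']; ring
    _ = (charDegree X : ℝ) ^ 2 := by rw [inv_mul_cancel₀ hC.ne', one_mul]

theorem norm_res_split (X : G → ℂ) :
    (classInner (res P X) (res P X)).re = (classInner (sing P X) (sing P X)).re +
      (classInner (res P X - sing P X) (res P X - sing P X)).re := by
  classical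
  rw [classInner_self_eq_sum, classInner_self_eq_sum, classInner_self_eq_sum,
    Complex.ofReal_re, Complex.ofReal_re, Complex.ofReal_re, ← mul_add, ← Finset.sum_add_distrib]
  congr 1
  apply Finset.sum_congr rfl
  intro c _
  rw [Pi.sub_apply]
  unfold sing res
  split_ifs <;> simp

/-- `‖X|_C‖² ≤ t` for an irreducible character of small degree -/
theorem norm_res_le (h : Star P) {X : G → ℂ} (hX : IsIrrCharacter G X)
    (hdeg : charDegree X ^ 2 + 1 < Nat.card ↥(P : Subgroup G)) :
    ∃ n : ℕ, n ≤ tt P ∧ classInner (res P X) (res P X) = (n : ℂ) := by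
  have hXc := Helper78.IsIrrCharacter.isCharacter hX
  have hn := classInner_eq_sum_mult (isCharacter_res' (P := P) hXc) (isCharacter_res' (P := P) hXc)
  refine ⟨_, ?_, hn⟩
  have h1 := norm_res_split (P := P) X
  rw [hn, Complex.natCast_re] at h1
  have h2 := sigma_lt h hX
  have h3 := regular_part_le h hXc
  have hq : ((charDegree X : ℝ) ^ 2 + 1 : ℝ) < (Nat.card ↥(P : Subgroup G) : ℝ) := by
    exact_mod_cast hdeg
  have hqpos : (0 : ℝ) < (Nat.card ↥(P : Subgroup G) : ℝ) := by
    have : (0 : ℝ) ≤ (charDegree X : ℝ) ^ 2 := sq_nonneg _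
    linarith
  have h4 : (classInner (res P X - sing P X) (res P X - sing P X)).re < 1 := by
    by_contra hcon
    push Not at hcon
    nlinarith
  have h5 : ((∑ ψ : IrrCharacter ↥(cen P),
      mult (res P X) (ψ : ↥(cen P) → ℂ) * mult (res P X) (ψ : ↥(cen P) → ℂ) : ℕ) : ℝ) <
        (tt P : ℝ) + 1 := by
    rw [h1]; linarith
  have h6 : (∑ ψ : IrrCharacter ↥(cen P),
      mult (res P X) (ψ : ↥(cen P) → ℂ) * mult (res P X) (ψ : ↥(cen P) → ℂ)) < tt P + 1 := by
    exact_mod_cast h5
  omega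

/-- the `N`-orbit sum of a function on `C`, normalised -/
noncomputable def orbSum (P : Sylow p G) [Fintype ↥(nor P)] (ψ : ↥(cen P) → ℂ) : ↥(cen P) → ℂ :=
  (Nat.card ↥(cen P) : ℂ)⁻¹ • ∑ x : ↥(nor P), cj (x : G) ψ

theorem classInner_orbSum_right (φ ψ : ↥(cen P) → ℂ) :
    classInner φ (orbSum P ψ) =
      (Nat.card ↥(cen P) : ℂ)⁻¹ * ∑ x : ↥(nor P), classInner φ (cj (x : G) ψ) := by
  unfold orbSum
  rw [classInner_smul_right, classInner_sum_right]
  congr 1
  simp

theorem classInner_orbSum_left (φ ψ : ↥(cen P) → ℂ) :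
    classInner (orbSum P ψ) φ =
      (Nat.card ↥(cen P) : ℂ)⁻¹ * ∑ x : ↥(nor P), classInner (cj (x : G) ψ) φ := by
  unfold orbSum
  rw [classInner_smul_left, classInner_sum_left]

theorem cj_orbSum (y : ↥(nor P)) (ψ : ↥(cen P) → ℂ) :
    cj (y : G) (orbSum P ψ) = orbSum P ψ := by
  unfold orbSum
  rw [cj_smul, cj_sum]
  congr 1
  apply Fintype.sum_equiv (Equiv.mulLeft y)
  intro x
  rw [cj_cj y.2 x.2]
  rfl

theorem orbSum_apply_one (ψ : ↥(cen P) → ℂ) :
    orbSum P ψ 1 = (tt P : ℂ) * ψ 1 := by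
  unfold orbSum
  rw [Pi.smul_apply, Finset.sum_apply, smul_eq_mul]
  have : ∀ x : ↥(nor P), cj (x : G) ψ 1 = ψ 1 := by
    intro x
    rw [cj_apply x.2]
    congr 1
    apply Subtype.ext
    simp
  rw [Finset.sum_congr rfl (fun x _ => this x), Finset.sum_const, Finset.card_univ, nsmul_eq_mul,
    ← Nat.card_eq_fintype_card, card_nor_eq]
  field_simp [card_cen_ne_zero (P := P)]

/-- `‖orbit sum‖² = t` when the stabilizer is `C` -/
theorem classInner_orbSum_orbSum {ψ : ↥(cen P) → ℂ} (hψ : IsIrrCharacter ↥(cen P) ψ)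
    (hstab : ∀ x : ↥(nor P), cj (x : G) ψ = ψ → (x : G) ∈ cen P) :
    classInner (orbSum P ψ) (orbSum P ψ) = (tt P : ℂ) := by
  rw [classInner_orbSum_left]
  have h1 : ∀ x : ↥(nor P), classInner (cj (x : G) ψ) (orbSum P ψ) = 1 := by
    intro x
    have e := cj_orbSum x⁻¹ ψ
    simp only [Subgroup.coe_inv] at e
    rw [classInner_cj_left x.2, e, classInner_orbSum_right, sumN_self hψ hstab]
    exact inv_mul_cancel₀ card_cen_ne_zero
  have h1' : ∀ x : ↥(nor P), classInner (cj (x : G) ψ) (orbSum P ψ) = 1 := h1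
  rw [Finset.sum_congr rfl (fun x _ => h1' x), Finset.sum_const, Finset.card_univ, nsmul_eq_mul,
    ← Nat.card_eq_fintype_card, card_nor_eq]
  field_simp [card_cen_ne_zero (P := P)]

/-- **Step 2**: if `X|_C` has a constituent `ψ₀` non-trivial on `P` then `X|_C` is the orbit sum
of `ψ₀` -/
theorem res_eq_orbSum (h : Star P) {X : G → ℂ} (hX : IsIrrCharacter G X)
    (hdeg : charDegree X ^ 2 + 1 < Nat.card ↥(P : Subgroup G))
    {ψ₀ : ↥(cen P) → ℂ} (hψ₀ : IsIrrCharacter ↥(cen P) ψ₀) (hne : cchar h ψ₀ ≠ 1)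
    (hm : mult (res P X) ψ₀ ≠ 0) :
    res P X = orbSum P ψ₀ ∧ mult (res P X) ψ₀ = 1 := by
  have hXc := Helper78.IsIrrCharacter.isCharacter hX
  have hcl : IsClassFunction G X := Helper78.IsCharacter.isClassFunction hXc
  obtain ⟨n, hn, hnorm⟩ := norm_res_le h hX hdeg
  obtain ⟨a, ha⟩ : ∃ a : ℕ, mult (res P X) ψ₀ = a := ⟨_, rfl⟩
  rw [ha] at hm ⊢
  have hstab : ∀ x : ↥(nor P), cj (x : G) ψ₀ = ψ₀ → (x : G) ∈ cen P :=
    fun x hx => mem_cen_of_cj_eq h hψ₀ hne hx
  have h1 : classInner (res P X) (orbSum P ψ₀) = ((tt P * a : ℕ) : ℂ) := by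
    rw [classInner_orbSum_right]
    rw [Finset.sum_congr rfl (fun x _ => by
      rw [classInner_res_cj hcl x ψ₀, mult_spec (isCharacter_res' hXc) hψ₀, ha])]
    rw [Finset.sum_const, Finset.card_univ, nsmul_eq_mul, ← Nat.card_eq_fintype_card, card_nor_eq]
    push_cast
    field_simp [card_cen_ne_zero (P := P)]
  have h2 : classInner (orbSum P ψ₀) (res P X) = ((tt P * a : ℕ) : ℂ) := by
    rw [← classInner_conj_symm, h1]; simp
  have h3 := classInner_orbSum_orbSum hψ₀ hstab
  have h4 : classInner (res P X - orbSum P ψ₀) (res P X - orbSum P ψ₀) =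
      ((n : ℂ) - ((tt P * a : ℕ) : ℂ)) - (((tt P * a : ℕ) : ℂ) - (tt P : ℂ)) := by
    rw [classInner_sub_left, classInner_sub_right, classInner_sub_right, hnorm, h1, h2, h3]
  have h5 := classInner_self_re_nonneg (res P X - orbSum P ψ₀)
  rw [h4] at h5
  simp only [Complex.sub_re, Complex.natCast_re] at h5
  have h5' : (2 * (tt P * a) : ℝ) ≤ (n : ℝ) + (tt P : ℝ) := by
    push_cast at h5; linarith
  have h5'' : 2 * (tt P * a) ≤ n + tt P := by exact_mod_cast h5'
  have ha1 : 1 ≤ a := Nat.one_le_iff_ne_zero.mpr hm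
  have htpos := tt_pos (P := P)
  have ha' : a = 1 := by
    by_contra hane
    have : 2 ≤ a := by omega
    have : 2 * tt P ≤ tt P * a := by nlinarith
    omega
  have hn' : n = tt P := by
    rw [ha', mul_one] at h5''
    omega
  refine ⟨?_, ha'⟩
  have h6 : (classInner (res P X - orbSum P ψ₀) (res P X - orbSum P ψ₀)).re ≤ 0 := by
    rw [h4, ha', hn']
    simp
  exact sub_eq_zero.mp (eq_zero_of_classInner_self_re_nonpos h6)

/-- if all irreducible constituents of `X|_C` are trivial on `P` then `P ≤ ker X` -/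
theorem apply_eq_of_forall_cchar (h : Star P) {X : G → ℂ} (hX : IsCharacter G X)
    (hall : ∀ ψ : ↥(cen P) → ℂ, IsIrrCharacter ↥(cen P) ψ → mult (res P X) ψ ≠ 0 →
      cchar h ψ = 1) (x : G) (hx : x ∈ (P : Subgroup G)) : X x = X 1 := by
  have h1 := eq_sum_mult (isCharacter_res' (P := P) hX)
  have h2 : ∀ c : ↥(cen P), res P X c =
      ∑ ψ : IrrCharacter ↥(cen P), (mult (res P X) (ψ : ↥(cen P) → ℂ) : ℂ) *
        (ψ : ↥(cen P) → ℂ) c := by
    intro c
    conv_lhs => rw [h1]
    rw [Finset.sum_apply]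
    rfl
  have h3 := h2 ⟨x, le_cen h hx⟩
  have h4 := h2 1
  have h5 : res P X ⟨x, le_cen h hx⟩ = res P X 1 := by
    rw [h3, h4]
    apply Finset.sum_congr rfl
    intro ψ _
    by_cases hm : mult (res P X) (ψ : ↥(cen P) → ℂ) = 0
    · rw [hm]; simp
    · rw [apply_coe_of_cchar_eq_one h ψ.2 (hall _ ψ.2 hm) ⟨x, hx⟩]
  exact h5

end Cfsg.Agent.Lib.Helper52.BL
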