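import Mathlib
import Cfsg.Agent.Lib.Helper52.BL.Small
import Cfsg.Agent.S0148
import Cfsg.Agent.S0198

/-!
# Brauer–Leonard: the family of exceptional characters attached to the `N`-orbits on the
non-principal characters of `P`.
-/

set_option autoImplicit false
set_option linter.style.haveILetI false
set_option linter.unusedSectionVars false
set_option linter.unusedVariables false

namespace Cfsg.Agent.Lib.Helper52.BL

open Cfsg Subgroup
open Cfsg.Agent.Lib.Helper26 Cfsg.Agent.Lib.Helper75
open scoped ComplexConjugate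

universe u

variable {G : Type u} [Group G] [Fintype G] {p : ℕ} [Fact p.Prime] {P : Sylow p G}
variable [Fintype ↥(cen P)] [Fintype ↥(nor P)]

theorem indFun_sub' (φ φ' : ↥(cen P) → ℂ) :
    indFun (cen P) (φ - φ') = indFun (cen P) φ - indFun (cen P) φ' := by
  rw [sub_eq_add_neg, indFun_add, ← neg_one_smul ℂ φ', indFun_smul, neg_one_smul,
    ← sub_eq_add_neg]

theorem isGen_indFun_sub {φ φ' : ↥(cen P) → ℂ} (hφ : IsCharacter ↥(cen P) φ)
    (hφ' : IsCharacter ↥(cen P) φ') :
    IsGeneralizedCharacter G (indFun (cen P) (φ - φ')) :=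
  ⟨indFun (cen P) φ, indFun (cen P) φ', Cfsg.Agent.S0148.result _ _ hφ,
    Cfsg.Agent.S0148.result _ _ hφ', indFun_sub' φ φ'⟩

theorem isSing_hat_sub (h : Star P) (l l' : ↥(P : Subgroup G) →* ℂˣ) :
    IsSing (hat h l - hat h l') := by
  intro c hc
  rw [Pi.sub_apply, hat_regular h l hc, hat_regular h l' hc, sub_self]

theorem indFun_sub_apply_one {φ φ' : ↥(cen P) → ℂ} (h1 : φ 1 = φ' 1) :
    indFun (cen P) (φ - φ') 1 = 0 := by
  rw [indFun_one, Pi.sub_apply, h1, sub_self, mul_zero]

/-- Gram matrix of the induced differences of linear characters -/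
theorem classInner_ind_hat_sub (h : Star P) (D : OrbitData P) (l l' m m' : Lam P) :
    classInner (indFun (cen P) (hat h l.1 - hat h l'.1))
      (indFun (cen P) (hat h m.1 - hat h m'.1)) =
      (if D.o l = D.o m then 1 else 0) - (if D.o l = D.o m' then 1 else 0)
        - ((if D.o l' = D.o m then 1 else 0) - (if D.o l' = D.o m' then 1 else 0)) := by
  rw [classInner_indFun_indFun h _ (isSing_hat_sub h _ _)]
  simp only [cj_sub, classInner_sub_left, classInner_sub_right, Finset.sum_sub_distrib]
  rw [sumN_hat_lam h D l m, sumN_hat_lam h D l m', sumN_hat_lam h D l' m, sumN_hat_lam h D l' m']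
  have hC := card_cen_ne_zero (P := P)
  split_ifs <;> field_simp <;> ring

/-- induction of `hat l` only depends on the orbit -/
theorem indFun_hat_eq (h : Star P) (D : OrbitData P) (l : Lam P) :
    indFun (cen P) (hat h l.1) = indFun (cen P) (hat h (D.r (D.o l)).1) := by
  obtain ⟨x, hx⟩ := D.ex l
  rw [← hx, ← cj_hat, indFun_cj x.2]

/-- the exceptional characters attached to the orbits -/
structure Fam (h : Star P) (D : OrbitData P) where
  /-- the characters -/
  Θ : Fin D.w → G → ℂ
  irr : ∀ i, IsIrrCharacter G (Θ i)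
  inj : Function.Injective Θ
  /-- the sign -/
  ε : ℂ
  hε : ε = 1 ∨ ε = -1
  ind_eq : ∀ l l' : Lam P,
    indFun (cen P) (hat h l.1 - hat h l'.1) = ε • (Θ (D.o l) - Θ (D.o l'))

theorem exists_fam (h : Star P) (D : OrbitData P) (hw : 0 < D.w) : Nonempty (Fam h D) := by
  classical
  let i₀ : Fin D.w := ⟨0, hw⟩
  let τ : Fin D.w → G → ℂ := fun i => indFun (cen P) (hat h (D.r i).1 - hat h (D.r i₀).1)
  have h0 : τ i₀ = 0 := by
    show indFun (cen P) (hat h (D.r i₀).1 - hat h (D.r i₀).1) = 0
    rw [sub_self, indFun_zero]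
  have hgen : ∀ i, IsGeneralizedCharacter G (τ i) := fun i =>
    isGen_indFun_sub (Helper78.IsIrrCharacter.isCharacter (isIrr_hat h _))
      (Helper78.IsIrrCharacter.isCharacter (isIrr_hat h _))
  have hone : ∀ i, τ i 1 = 0 := fun i =>
    indFun_sub_apply_one (by rw [hat_apply_one, hat_apply_one])
  have hgram : ∀ i j, i ≠ i₀ → j ≠ i₀ →
      classInner (τ i) (τ j) = if i = j then 2 else 1 := by
    intro i j hi hj
    show classInner (indFun (cen P) (hat h (D.r i).1 - hat h (D.r i₀).1))
      (indFun (cen P) (hat h (D.r j).1 - hat h (D.r i₀).1)) = _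
    rw [classInner_ind_hat_sub h D]
    simp only [D.o_r]
    have hj' : ¬ i₀ = j := fun he => hj he.symm
    by_cases hij : i = j
    · subst hij
      simp only [if_pos, if_neg hi, if_neg hj', if_true]
      norm_num
    · simp only [if_neg hij, if_neg hi, if_neg hj', if_true]
      norm_num
  obtain ⟨ε, hε, μ, hirr, hinj, hτ⟩ := Cfsg.Agent.S0198.result D.w i₀ τ h0 hgen hone hgram
  refine ⟨{ Θ := μ, irr := hirr, inj := hinj, ε := ε, hε := hε, ind_eq := ?_ }⟩
  intro l l'
  have e1 : indFun (cen P) (hat h l.1 - hat h l'.1) = τ (D.o l) - τ (D.o l') := by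
    show _ = indFun (cen P) (hat h (D.r (D.o l)).1 - hat h (D.r i₀).1) -
      indFun (cen P) (hat h (D.r (D.o l')).1 - hat h (D.r i₀).1)
    rw [indFun_sub', indFun_sub', indFun_sub', indFun_hat_eq h D l, indFun_hat_eq h D l']
    abel
  rw [e1, hτ, hτ, ← smul_sub]
  congr 1
  abel

namespace Fam

variable {h : Star P} {D : OrbitData P} (F : Fam h D)

theorem eps_mul_eps : F.ε * F.ε = 1 := by
  rcases F.hε with h1 | h1 <;> rw [h1] <;> norm_num

open Classical in
/-- **dichotomy**: differences of multiplicities of the `hat l` in the restriction of an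
irreducible character -/
theorem mult_sub (l l' : Lam P) {Z : G → ℂ} (hZ : IsIrrCharacter G Z) :
    (mult (res P Z) (hat h l.1) : ℂ) - (mult (res P Z) (hat h l'.1) : ℂ) =
      F.ε * ((if F.Θ (D.o l) = Z then 1 else 0) - (if F.Θ (D.o l') = Z then 1 else 0)) := by
  have hZc := Helper78.IsIrrCharacter.isCharacter hZ
  have h1 : classInner (indFun (cen P) (hat h l.1 - hat h l'.1)) Z =
      (mult (res P Z) (hat h l.1) : ℂ) - (mult (res P Z) (hat h l'.1) : ℂ) := by
    rw [frobenius_reciprocity _ _ (Helper78.IsCharacter.isClassFunction hZc), classInner_sub_left]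
    rw [← mult_spec' (isCharacter_res' hZc) (isIrr_hat h l.1),
      ← mult_spec' (isCharacter_res' hZc) (isIrr_hat h l'.1)]
    rfl
  rw [← h1, F.ind_eq, classInner_smul_left, classInner_sub_left,
    Helper78.classInner_irr (F.irr _) hZ, Helper78.classInner_irr (F.irr _) hZ]

/-- restrictions of the exceptional characters differ by orbit sums -/
theorem res_sub (i j : Fin D.w) :
    res P (F.Θ i) - res P (F.Θ j) =
      F.ε • (orbSum P (hat h (D.r i).1) - orbSum P (hat h (D.r j).1)) := by
  funext c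
  have h1 := congrFun (F.ind_eq (D.r i) (D.r j)) (c : G)
  rw [D.o_r, D.o_r, indFun_apply_of_isSing h (isSing_hat_sub h _ _) c] at h1
  have h2 : (F.ε • (orbSum P (hat h (D.r i).1) - orbSum P (hat h (D.r j).1))) c =
      F.ε * ((Nat.card ↥(cen P) : ℂ)⁻¹ *
        ∑ x : ↥(nor P), cj (x : G) (hat h (D.r i).1 - hat h (D.r j).1) c) := by
    unfold orbSum
    simp only [Pi.smul_apply, Pi.sub_apply, Finset.sum_apply, smul_eq_mul, cj_sub,
      Finset.sum_sub_distrib]
    ring
  rw [h2, h1]
  simp only [Pi.smul_apply, Pi.sub_apply, smul_eq_mul, res]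
  rw [← mul_assoc, F.eps_mul_eps, one_mul]

theorem classInner_orbSum_hat_eq_zero (l : ↥(P : Subgroup G) →* ℂˣ) {ψ : ↥(cen P) → ℂ}
    (hψ : IsIrrCharacter ↥(cen P) ψ) (hne : ∀ x : ↥(nor P), ψ ≠ hat h (act x l)) :
    classInner (orbSum P (hat h l)) ψ = 0 := by
  rw [classInner_orbSum_left]
  rw [Finset.sum_eq_zero, mul_zero]
  intro x _
  rw [cj_hat, Helper78.classInner_irr_ne (isIrr_hat h _) hψ (fun he => hne x he.symm)]

/-- irreducible characters of `C` other than the `hat l`, `l ≠ 1`, have the same multiplicity in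
all exceptional characters -/
theorem mult_eq_of_ne_hat {ψ : ↥(cen P) → ℂ} (hψ : IsIrrCharacter ↥(cen P) ψ)
    (hne : ∀ l : Lam P, ψ ≠ hat h l.1) (i j : Fin D.w) :
    mult (res P (F.Θ i)) ψ = mult (res P (F.Θ j)) ψ := by
  have hi := Helper78.IsIrrCharacter.isCharacter (F.irr i)
  have hj := Helper78.IsIrrCharacter.isCharacter (F.irr j)
  have h1 : classInner (res P (F.Θ i) - res P (F.Θ j)) ψ = 0 := by
    rw [F.res_sub, classInner_smul_left, classInner_sub_left,
      classInner_orbSum_hat_eq_zero _ hψ (fun x => hne ⟨_, act_ne_one x (D.r i).2⟩),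
      classInner_orbSum_hat_eq_zero _ hψ (fun x => hne ⟨_, act_ne_one x (D.r j).2⟩)]
    ring
  rw [classInner_sub_left, mult_spec (isCharacter_res' hi) hψ,
    mult_spec (isCharacter_res' hj) hψ, sub_eq_zero] at h1
  exact_mod_cast h1

/-- the exceptional characters have the same degree -/
theorem apply_one_eq (i j : Fin D.w) : F.Θ i 1 = F.Θ j 1 := by
  have h1 := congrFun (F.ind_eq (D.r i) (D.r j)) 1
  rw [indFun_sub_apply_one (by rw [hat_apply_one, hat_apply_one]), D.o_r, D.o_r] at h1
  simp only [Pi.smul_apply, Pi.sub_apply, smul_eq_mul] at h1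
  have hε0 : F.ε ≠ 0 := by
    rcases F.hε with h1 | h1 <;> rw [h1] <;> norm_num
  have := (mul_eq_zero.mp h1.symm).resolve_left hε0
  exact sub_eq_zero.mp this

theorem charDegree_eq (i j : Fin D.w) : charDegree (F.Θ i) = charDegree (F.Θ j) := by
  unfold charDegree
  rw [F.apply_one_eq i j]

end Fam

end Cfsg.Agent.Lib.Helper52.BL
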