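import Mathlib
import Cfsg.Agent.Lib.Helper52.BL.Fam

/-!
# Brauer–Leonard: pinning down the restrictions of the exceptional characters, given one
irreducible character of small degree involving a non-principal `hat l`.
-/

set_option autoImplicit false
set_option linter.style.haveILetI false
set_option linter.unusedSectionVars false
set_option linter.unusedVariables false

namespace Cfsg.Agent.Lib.Helper52.BL

open Cfsg Subgroup
open Cfsg.Agent.Lib.Helper26 Cfsg.Agent.Lib.Helper75
open scoped ComplexConjugate

universe u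

variable {G : Type u} [Group G] [Fintype G] {p : ℕ} [Fact p.Prime] {P : Sylow p G}
variable [Fintype ↥(cen P)] [Fintype ↥(nor P)]

theorem charDegree_hat (h : Star P) (l : ↥(P : Subgroup G) →* ℂˣ) : charDegree (hat h l) = 1 :=
  Helper80.charDegree_natCast (by rw [hat_apply_one]; simp)

theorem charDegree_res (X : G → ℂ) : charDegree (res P X) = charDegree X := rfl

theorem sum_ite_o (h : Star P) (D : OrbitData P) [Fintype (Lam P)] (i : Fin D.w) :
    ∑ l : Lam P, (if D.o l = i then 1 else 0) = tt P := by
  classical
  rw [Finset.sum_boole, ← card_fiber h D i]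
  simp

theorem card_lam' (h : Star P) [Fintype (Lam P)] :
    Fintype.card (Lam P) + 1 = Nat.card ↥(P : Subgroup G) := by
  rw [← card_lam h, Nat.card_eq_fintype_card]

/-- the sum of the multiplicities of the `hat l` is at most the degree -/
theorem sum_mult_hat_le (h : Star P) [Fintype (Lam P)] {A : ↥(cen P) → ℂ}
    (hA : IsCharacter ↥(cen P) A) :
    ∑ l : Lam P, mult A (hat h l.1) ≤ charDegree A := by
  have := sum_mult_le_charDegree hA (fun l : Lam P => hat h l.1) (fun l => isIrr_hat h l.1)
    (fun l m hlm => Subtype.ext (hat_injective h hlm))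
  simp only [charDegree_hat, mul_one] at this
  exact this

namespace Fam

variable {h : Star P} {D : OrbitData P} (F : Fam h D)

theorem pin_aux [Fintype (Lam P)] (hw : 2 ≤ D.w) (y : ℕ)
    (hdeg : y + tt P + 2 ≤ Nat.card ↥(P : Subgroup G)) (i : Fin D.w)
    (hy : charDegree (F.Θ i) = y) :
    F.ε = 1 ∧ ∀ l : Lam P, mult (res P (F.Θ i)) (hat h l.1) = if D.o l = i then 1 else 0 := by
  classical
  -- an orbit different from `i`
  obtain ⟨j, hji⟩ : ∃ j : Fin D.w, j ≠ i := by
    by_cases hi : i = ⟨0, by omega⟩
    · exact ⟨⟨1, by omega⟩, by rw [hi]; simp [Fin.ext_iff]⟩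
    · exact ⟨⟨0, by omega⟩, fun he => hi he.symm⟩
  have hΘc := Helper78.IsIrrCharacter.isCharacter (F.irr i)
  obtain ⟨m, hm⟩ : ∃ m : ℕ, mult (res P (F.Θ i)) (hat h (D.r j).1) = m := ⟨_, rfl⟩
  have key : ∀ l : Lam P, (mult (res P (F.Θ i)) (hat h l.1) : ℂ) =
      (m : ℂ) + F.ε * (if D.o l = i then 1 else 0) := by
    intro l
    have h1 := F.mult_sub l (D.r j) (F.irr i)
    rw [hm, D.o_r, if_neg (fun he => hji (F.inj he))] at h1
    have h2 : (F.Θ (D.o l) = F.Θ i) ↔ D.o l = i := ⟨fun he => F.inj he, fun he => by rw [he]⟩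
    simp only [h2, sub_zero] at h1
    rw [← h1]; ring
  have hsum := sum_mult_hat_le h (isCharacter_res' (P := P) hΘc)
  rw [charDegree_res, hy] at hsum
  have hq := card_lam' (P := P) h
  have ht := sum_ite_o h D i
  rcases F.hε with hε | hε
  · refine ⟨hε, ?_⟩
    have key' : ∀ l : Lam P, mult (res P (F.Θ i)) (hat h l.1) =
        m + (if D.o l = i then 1 else 0) := by
      intro l
      have := key l
      rw [hε, one_mul] at this
      have e : ((if D.o l = i then 1 else 0 : ℂ)) = (((if D.o l = i then 1 else 0 : ℕ)) : ℂ) := by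
        split_ifs <;> simp
      rw [e] at this
      exact_mod_cast this
    rw [Finset.sum_congr rfl (fun l _ => key' l), Finset.sum_add_distrib, ht, Finset.sum_const,
      Finset.card_univ, smul_eq_mul] at hsum
    have hm0 : m = 0 := by
      by_contra hne
      have : 1 ≤ m := Nat.one_le_iff_ne_zero.mpr hne
      have : Fintype.card (Lam P) ≤ Fintype.card (Lam P) * m := Nat.le_mul_of_pos_right _ this
      omega
    intro l
    rw [key' l, hm0, zero_add]
  · exfalso
    have key' : ∀ l : Lam P, mult (res P (F.Θ i)) (hat h l.1) +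
        (if D.o l = i then 1 else 0) = m := by
      intro l
      have := key l
      rw [hε] at this
      by_cases hl : D.o l = i
      · rw [if_pos hl] at this
        rw [if_pos hl]
        have h3 : ((mult (res P (F.Θ i)) (hat h l.1) + 1 : ℕ) : ℂ) = (m : ℂ) := by
          push_cast
          rw [this]; ring
        exact_mod_cast h3
      · rw [if_neg hl] at this
        rw [if_neg hl, add_zero]
        have h3 : ((mult (res P (F.Θ i)) (hat h l.1) : ℕ) : ℂ) = (m : ℂ) := by
          rw [this]; ring
        exact_mod_cast h3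
    have hm1 : 1 ≤ m := by
      have := key' (D.r i)
      rw [D.o_r, if_pos rfl] at this
      omega
    have hs : ∑ l : Lam P, (mult (res P (F.Θ i)) (hat h l.1) +
        (if D.o l = i then 1 else 0)) = Fintype.card (Lam P) * m := by
      rw [Finset.sum_congr rfl (fun l _ => key' l), Finset.sum_const, Finset.card_univ,
        smul_eq_mul]
    rw [Finset.sum_add_distrib, ht] at hs
    have : Fintype.card (Lam P) ≤ Fintype.card (Lam P) * m := Nat.le_mul_of_pos_right _ hm1
    omega

/-- **pinning**: given a small irreducible character `Y` of `G` whose restriction to `C` involves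
some non-principal `hat μ`, the exceptional characters have degree `Y 1`, the sign is `+`, and the
multiplicities of the `hat l` in them are as expected -/
theorem pin [Fintype (Lam P)] (hw : 2 ≤ D.w) {Y : G → ℂ} (hY : IsIrrCharacter G Y) (μ₁ : Lam P)
    (hμ : mult (res P Y) (hat h μ₁.1) ≠ 0)
    (hdeg : charDegree Y + tt P + 2 ≤ Nat.card ↥(P : Subgroup G)) :
    F.ε = 1 ∧ (∀ (i : Fin D.w) (l : Lam P),
      mult (res P (F.Θ i)) (hat h l.1) = if D.o l = i then 1 else 0) ∧
      ∀ i, charDegree (F.Θ i) = charDegree Y := by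
  classical
  have hYc := Helper78.IsIrrCharacter.isCharacter hY
  -- `Y` is one of the exceptional characters
  have hex : ∃ i₁, F.Θ i₁ = Y := by
    by_contra hcon
    push Not at hcon
    have hall : ∀ l : Lam P, mult (res P Y) (hat h l.1) = mult (res P Y) (hat h μ₁.1) := by
      intro l
      have := F.mult_sub l μ₁ hY
      rw [if_neg (hcon _), if_neg (hcon _), sub_zero, mul_zero, sub_eq_zero] at this
      exact_mod_cast this
    have hsum := sum_mult_hat_le h (isCharacter_res' (P := P) hYc)
    rw [Finset.sum_congr rfl (fun l _ => hall l), Finset.sum_const, Finset.card_univ,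
      smul_eq_mul, charDegree_res] at hsum
    have hq := card_lam' (P := P) h
    have h1 : 1 ≤ mult (res P Y) (hat h μ₁.1) := Nat.one_le_iff_ne_zero.mpr hμ
    have : Fintype.card (Lam P) ≤ Fintype.card (Lam P) * mult (res P Y) (hat h μ₁.1) :=
      Nat.le_mul_of_pos_right _ h1
    omega
  obtain ⟨i₁, hi₁⟩ := hex
  have hdegs : ∀ i, charDegree (F.Θ i) = charDegree Y := by
    intro i
    rw [F.charDegree_eq i i₁, hi₁]
  have hall := fun i => F.pin_aux hw (charDegree Y) hdeg i (hdegs i)
  exact ⟨(hall i₁).1, fun i l => (hall i).2 l, hdegs⟩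

end Fam

end Cfsg.Agent.Lib.Helper52.BL
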