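import Mathlib
import Cfsg.Agent.Lib.Helper52.BL.Pin

/-!
# Brauer–Leonard: first endgame (the principal character of `C` occurs in the exceptional
characters).
-/

set_option autoImplicit false
set_option linter.style.haveILetI false
set_option linter.unusedSectionVars false
set_option linter.unusedVariables false

namespace Cfsg.Agent.Lib.Helper52.BL

open Cfsg Subgroup
open Cfsg.Agent.Lib.Helper26 Cfsg.Agent.Lib.Helper75
open scoped ComplexConjugate

universe u

variable {G : Type u} [Group G] [Fintype G] {p : ℕ} [Fact p.Prime] {P : Sylow p G}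
variable [Fintype ↥(cen P)] [Fintype ↥(nor P)]

theorem stab_hat (h : Star P) (l : Lam P) (x : ↥(nor P))
    (hx : cj (x : G) (hat h l.1) = hat h l.1) : (x : G) ∈ cen P := by
  rw [cj_hat] at hx
  exact mem_cen_of_act_eq h l.2 (hat_injective h hx)

/-- `‖ind(1_C - hat l)‖² = t + 1` -/
theorem classInner_ind_one_sub_hat (h : Star P) (l : Lam P) :
    classInner (indFun (cen P) (hat h 1 - hat h l.1)) (indFun (cen P) (hat h 1 - hat h l.1)) =
      (tt P : ℂ) + 1 := by
  classical
  rw [classInner_indFun_indFun h _ (isSing_hat_sub h _ _)]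
  have h1 : ∀ x : ↥(nor P), classInner (hat h 1 - hat h l.1) (cj (x : G) (hat h 1 - hat h l.1)) =
      1 + classInner (hat h l.1) (cj (x : G) (hat h l.1)) := by
    intro x
    rw [cj_sub, classInner_sub_left, classInner_sub_right, classInner_sub_right]
    have e1 : cj (x : G) (hat h 1) = hat h 1 := by rw [cj_hat, act_one_right]
    rw [e1, classInner_hat_hat h 1 1, if_pos rfl]
    have e2 : classInner (hat h 1) (cj (x : G) (hat h l.1)) = 0 := by
      rw [cj_hat, classInner_hat_hat, if_neg (fun he => act_ne_one x l.2 he.symm)]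
    have e3 : classInner (hat h l.1) (hat h 1) = 0 := by
      rw [classInner_hat_hat, if_neg l.2]
    rw [e2, e3]; ring
  rw [Finset.sum_congr rfl (fun x _ => h1 x), Finset.sum_add_distrib,
    sumN_self (isIrr_hat h l.1) (stab_hat h l), Finset.sum_const, Finset.card_univ, nsmul_eq_mul,
    ← Nat.card_eq_fintype_card, card_nor_eq]
  field_simp [card_cen_ne_zero (P := P)]

/-- the properties of the family of exceptional characters obtained by pinning -/
structure Pinned {h : Star P} {D : OrbitData P} (F : Fam h D) (y : ℕ) : Prop where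
  eps : F.ε = 1
  mult_hat : ∀ (i : Fin D.w) (l : Lam P),
    mult (res P (F.Θ i)) (hat h l.1) = if D.o l = i then 1 else 0
  deg : ∀ i, charDegree (F.Θ i) = y

namespace Fam

variable {h : Star P} {D : OrbitData P} (F : Fam h D)

theorem res_one_fun : res P (fun _ : G => (1 : ℂ)) = hat h 1 := by
  rw [hat_one]; rfl

theorem Θ_ne_one {y : ℕ} (hp : Pinned F y) (i : Fin D.w) : F.Θ i ≠ fun _ => 1 := by
  classical
  intro he
  have h1 := hp.mult_hat i (D.r i)
  rw [D.o_r, if_pos rfl, he, res_one_fun (h := h),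
    mult_irr (isIrr_hat h 1) (isIrr_hat h _), if_neg] at h1
  · omega
  · intro he'
    exact (D.r i).2 (hat_injective h he').symm

theorem mult_hat_one_eq (i j : Fin D.w) :
    mult (res P (F.Θ i)) (hat h 1) = mult (res P (F.Θ j)) (hat h 1) :=
  F.mult_eq_of_ne_hat (isIrr_hat h 1) (fun l he => l.2 (hat_injective h he).symm) i j

open Classical in
/-- **first endgame** -/
theorem false_of_mult_one_pos {y : ℕ} (hp : Pinned F y) (hw : tt P + 1 ≤ D.w)
    (j : Fin D.w) (hd : mult (res P (F.Θ j)) (hat h 1) ≠ 0) : False := by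
  obtain ⟨d, hdd⟩ : ∃ d : ℕ, mult (res P (F.Θ j)) (hat h 1) = d := ⟨_, rfl⟩
  rw [hdd] at hd
  have hdi : ∀ i, mult (res P (F.Θ i)) (hat h 1) = d := fun i => by
    rw [F.mult_hat_one_eq i j, hdd]
  set A : G → ℂ := indFun (cen P) (hat h 1 - hat h (D.r j).1) with hA
  have hnorm : classInner A A = (tt P : ℂ) + 1 := classInner_ind_one_sub_hat h (D.r j)
  -- the orthonormal family `1_G, Θ i`
  let Z : Option (Fin D.w) → G → ℂ := fun k => k.elim (fun _ => 1) F.Θ
  have hZ : ∀ k, IsIrrCharacter G (Z k) := by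
    intro k
    cases k with
    | none => exact Helper78.isIrrCharacter_one
    | some i => exact F.irr i
  have hZinj : Function.Injective Z := by
    intro k k' hkk
    cases k with
    | none =>
      cases k' with
      | none => rfl
      | some i' => exact absurd hkk.symm (F.Θ_ne_one hp i')
    | some i =>
      cases k' with
      | none => exact absurd hkk (F.Θ_ne_one hp i)
      | some i' => rw [F.inj hkk]
  let b : Option (Fin D.w) → ℝ := fun k =>
    k.elim 1 (fun i => (d : ℝ) - (if i = j then 1 else 0))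
  have hb : ∀ k, classInner A (Z k) = (b k : ℂ) := by
    intro k
    cases k with
    | none =>
      show classInner A (fun _ => 1) = ((1 : ℝ) : ℂ)
      rw [hA, frobenius_reciprocity _ _ (Helper78.IsCharacter.isClassFunction
        (Helper78.IsIrrCharacter.isCharacter Helper78.isIrrCharacter_one)), classInner_sub_left]
      have e : (fun c : ↥(cen P) => (fun _ : G => (1 : ℂ)) (c : G)) = hat h 1 := by
        rw [hat_one]
      rw [e, classInner_hat_hat h 1 1, if_pos rfl, classInner_hat_hat, if_neg (D.r j).2]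
      simp
    | some i =>
      show classInner A (F.Θ i) = (((d : ℝ) - (if i = j then 1 else 0) : ℝ) : ℂ)
      have hc := Helper78.IsIrrCharacter.isCharacter (F.irr i)
      rw [hA, frobenius_reciprocity _ _ (Helper78.IsCharacter.isClassFunction hc),
        classInner_sub_left]
      have e1 : classInner (hat h 1) (fun c : ↥(cen P) => F.Θ i (c : G)) = (d : ℂ) := by
        have := mult_spec' (isCharacter_res' (P := P) hc) (isIrr_hat h 1)
        rw [hdi i] at this
        exact this
      have e2 : classInner (hat h (D.r j).1) (fun c : ↥(cen P) => F.Θ i (c : G)) =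
          ((if i = j then 1 else 0 : ℕ) : ℂ) := by
        have := mult_spec' (isCharacter_res' (P := P) hc) (isIrr_hat h (D.r j).1)
        rw [hp.mult_hat i (D.r j), D.o_r] at this
        rw [show (fun c : ↥(cen P) => F.Θ i (c : G)) = res P (F.Θ i) from rfl, this]
        by_cases hij : i = j
        · rw [if_pos hij, if_pos hij.symm]
        · rw [if_neg hij, if_neg (fun he => hij he.symm)]
      rw [e1, e2]
      split_ifs <;> simp
  have hsum : ∑ k, b k ^ 2 = 1 + ((D.w : ℝ) * (d : ℝ) ^ 2 - 2 * d + 1) := by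
    rw [Fintype.sum_option]
    show (1 : ℝ) ^ 2 + ∑ i : Fin D.w, ((d : ℝ) - (if i = j then 1 else 0)) ^ 2 = _
    have : ∀ i : Fin D.w, ((d : ℝ) - (if i = j then 1 else 0)) ^ 2 =
        (d : ℝ) ^ 2 - (if i = j then (2 * (d : ℝ) - 1) else 0) := by
      intro i
      split_ifs <;> ring
    rw [Finset.sum_congr rfl (fun i _ => this i), Finset.sum_sub_distrib, Finset.sum_const,
      Finset.card_univ, Fintype.card_fin, nsmul_eq_mul, Finset.sum_ite_eq' Finset.univ j,
      if_pos (Finset.mem_univ j)]
    ring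
  have hbes := bessel A Z hZ hZinj b hb
  rw [hsum, hnorm] at hbes
  simp only [Complex.add_re, Complex.natCast_re, Complex.one_re] at hbes
  have hwR : (tt P : ℝ) + 1 ≤ (D.w : ℝ) := by exact_mod_cast hw
  have hd1 : (1 : ℝ) ≤ (d : ℝ) := by exact_mod_cast Nat.one_le_iff_ne_zero.mpr hd
  have htpos : (0 : ℝ) < tt P := by exact_mod_cast tt_pos (P := P)
  -- `d = 1`
  have hd' : (d : ℝ) = 1 := by
    by_contra hne
    have hd2 : (2 : ℝ) ≤ (d : ℝ) := by
      have : 2 ≤ d := by
        have h1 : 1 ≤ d := Nat.one_le_iff_ne_zero.mpr hd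
        have h2 : d ≠ 1 := fun he => hne (by rw [he]; simp)
        omega
      exact_mod_cast this
    have h1 : ((tt P : ℝ) + 1) * (d : ℝ) ^ 2 ≤ (D.w : ℝ) * (d : ℝ) ^ 2 :=
      mul_le_mul_of_nonneg_right hwR (sq_nonneg _)
    have h2 : (0 : ℝ) < (d : ℝ) ^ 2 - 1 := by nlinarith
    have h3 := mul_pos htpos h2
    nlinarith [sq_nonneg ((d : ℝ) - 1)]
  rw [hd'] at hbes hsum
  have hwt : (D.w : ℝ) = (tt P : ℝ) + 1 := by linarith
  -- equality in Bessel
  have heq : A = ∑ k, (b k : ℂ) • Z k := by
    apply bessel_eq A Z hZ hZinj b hb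
    rw [hsum, hnorm]
    simp only [Complex.add_re, Complex.natCast_re, Complex.one_re]
    linarith
  have hA1 : A 1 = 0 := indFun_sub_apply_one (by rw [hat_apply_one, hat_apply_one])
  rw [heq, Finset.sum_apply, Fintype.sum_option] at hA1
  have hy : ∀ i, F.Θ i 1 = (y : ℂ) := fun i => by
    rw [Helper78.IsCharacter.apply_one_eq_charDegree
      (Helper78.IsIrrCharacter.isCharacter (F.irr i)), hp.deg i]
  have hterm : ∀ i : Fin D.w, ((b (some i) : ℂ) • Z (some i)) 1 =
      (((d : ℝ) - (if i = j then 1 else 0)) * (y : ℝ) : ℝ) := by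
    intro i
    show (((d : ℝ) - (if i = j then 1 else 0) : ℝ) : ℂ) * F.Θ i 1 = _
    rw [hy i]; push_cast; ring
  have hnone : ((b none : ℂ) • Z none) 1 = ((1 : ℝ) : ℂ) := by
    show ((1 : ℝ) : ℂ) * 1 = _
    simp
  rw [hnone, Finset.sum_congr rfl (fun i _ => hterm i), ← Complex.ofReal_sum,
    ← Complex.ofReal_add] at hA1
  have hA1' : (1 : ℝ) + ∑ i : Fin D.w, ((d : ℝ) - (if i = j then 1 else 0)) * (y : ℝ) = 0 := by
    exact_mod_cast hA1
  have hnn : 0 ≤ ∑ i : Fin D.w, ((d : ℝ) - (if i = j then 1 else 0)) * (y : ℝ) := by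
    apply Finset.sum_nonneg
    intro i _
    apply mul_nonneg _ (Nat.cast_nonneg _)
    rw [hd']
    split_ifs <;> norm_num
  linarith

end Fam

end Cfsg.Agent.Lib.Helper52.BL
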