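import Mathlib
import Cfsg.Agent.Lib.Helper52.BL.EndA

/-!
# Brauer–Leonard: second endgame, part 1 (the restriction of an exceptional character to `C` is
exactly an orbit sum).
-/

set_option autoImplicit false
set_option linter.style.haveILetI false
set_option linter.unusedSectionVars false
set_option linter.unusedVariables false

namespace Cfsg.Agent.Lib.Helper52.BL

open Cfsg Subgroup
open Cfsg.Agent.Lib.Helper26 Cfsg.Agent.Lib.Helper75
open scoped ComplexConjugate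

universe u

variable {G : Type u} [Group G] [Fintype G] {p : ℕ} [Fact p.Prime] {P : Sylow p G}
variable [Fintype ↥(cen P)] [Fintype ↥(nor P)]

theorem isSing_tw_sub_tw (h : Star P) (m n : ↥(P : Subgroup G) →* ℂˣ) (ψ : ↥(cen P) → ℂ) :
    IsSing (tw h m ψ - tw h n ψ) := by
  intro c hc
  rw [Pi.sub_apply]
  unfold tw
  rw [hat_regular h m hc, hat_regular h n hc, sub_self]

theorem norm_ind_sub (h : Star P) (a b : ↥(cen P) → ℂ) (hS : IsSing (a - b)) :
    classInner (indFun (cen P) (a - b)) (indFun (cen P) (a - b)) =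
      (Nat.card ↥(cen P) : ℂ)⁻¹ *
        (∑ x : ↥(nor P), classInner a (cj (x : G) a) - ∑ x : ↥(nor P), classInner a (cj (x : G) b)
          - (∑ x : ↥(nor P), classInner b (cj (x : G) a) -
              ∑ x : ↥(nor P), classInner b (cj (x : G) b))) := by
  rw [classInner_indFun_indFun h _ hS]
  simp only [cj_sub, classInner_sub_left, classInner_sub_right, Finset.sum_sub_distrib]
  ring

theorem classInner_ind_sub_irr {a b : ↥(cen P) → ℂ} (ha : IsIrrCharacter ↥(cen P) a)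
    (hb : IsIrrCharacter ↥(cen P) b) {Z : G → ℂ} (hZ : IsCharacter G Z) :
    classInner (indFun (cen P) (a - b)) Z =
      (mult (res P Z) a : ℂ) - (mult (res P Z) b : ℂ) := by
  rw [frobenius_reciprocity _ _ (Helper78.IsCharacter.isClassFunction hZ), classInner_sub_left,
    ← mult_spec' (isCharacter_res' hZ) ha, ← mult_spec' (isCharacter_res' hZ) hb]
  rfl

theorem charDegree_tw (h : Star P) (m : ↥(P : Subgroup G) →* ℂˣ) (ψ : ↥(cen P) → ℂ) :
    charDegree (tw h m ψ) = charDegree ψ := by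
  unfold charDegree
  rw [tw_apply_one]

theorem tw_ne_hat {h : Star P} {ψ' : ↥(cen P) → ℂ} (hψ' : IsIrrCharacter ↥(cen P) ψ')
    (hc : cchar h ψ' = 1) (hne : ψ' ≠ hat h 1) (m l : ↥(P : Subgroup G) →* ℂˣ) :
    tw h m ψ' ≠ hat h l := by
  intro he
  apply hne
  rw [hat_one]
  exact eq_hat_of_tw_eq_hat h hψ' hc he

namespace Fam

variable {h : Star P} {D : OrbitData P} (F : Fam h D)

/-- **T1**: irreducible characters of `C` that are non-trivial on `P` and not of the form `hat l`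
do not occur in the exceptional characters -/
theorem mult_tw_eq_zero [Fintype (Lam P)] {y : ℕ} (hp : Pinned F y) (hw : 3 ≤ D.w)
    (hy : y + 1 < Nat.card ↥(P : Subgroup G))
    {ψ' : ↥(cen P) → ℂ} (hψ' : IsIrrCharacter ↥(cen P) ψ') (hc : cchar h ψ' = 1)
    (hne : ψ' ≠ hat h 1) (μ : Lam P) (i : Fin D.w) :
    mult (res P (F.Θ i)) (tw h μ.1 ψ') = 0 := by
  classical
  have hirr : ∀ m : Lam P, IsIrrCharacter ↥(cen P) (tw h m.1 ψ') := fun m => isIrr_tw h m.1 hψ'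
  have hcc : ∀ m : Lam P, cchar h (tw h m.1 ψ') = m.1 := fun m => by
    rw [cchar_tw h _ hψ', hc]; exact mul_one m.1
  have hindep : ∀ (m : Lam P) (k : Fin D.w),
      mult (res P (F.Θ k)) (tw h m.1 ψ') = mult (res P (F.Θ i)) (tw h m.1 ψ') := fun m k =>
    F.mult_eq_of_ne_hat (hirr m) (fun l => tw_ne_hat hψ' hc hne _ _) k i
  -- all multiplicities are equal
  have heq : ∀ m n : Lam P,
      mult (res P (F.Θ i)) (tw h m.1 ψ') = mult (res P (F.Θ i)) (tw h n.1 ψ') := by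
    intro m n
    set U : G → ℂ := indFun (cen P) (tw h m.1 ψ' - tw h n.1 ψ') with hU
    obtain ⟨e₁, he₁⟩ : ∃ e : ℕ, mult (res P (F.Θ i)) (tw h m.1 ψ') = e := ⟨_, rfl⟩
    obtain ⟨e₂, he₂⟩ : ∃ e : ℕ, mult (res P (F.Θ i)) (tw h n.1 ψ') = e := ⟨_, rfl⟩
    rw [he₁, he₂]
    have hb : ∀ k : Fin D.w, classInner U (F.Θ k) = (((e₁ : ℝ) - (e₂ : ℝ) : ℝ) : ℂ) := by
      intro k
      rw [hU, classInner_ind_sub_irr (hirr m) (hirr n)
        (Helper78.IsIrrCharacter.isCharacter (F.irr k)), hindep m k, hindep n k, he₁, he₂]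
      push_cast; ring
    have hbes := bessel U F.Θ F.irr F.inj (fun _ => (e₁ : ℝ) - (e₂ : ℝ)) hb
    rw [Finset.sum_const, Finset.card_univ, Fintype.card_fin, nsmul_eq_mul] at hbes
    -- the norm of `U` is at most `2`
    have hnorm : (classInner U U).re ≤ 2 := by
      rw [hU, norm_ind_sub h _ _ (isSing_tw_sub_tw h _ _ _)]
      have hst : ∀ m' : Lam P, ∀ x : ↥(nor P),
          cj (x : G) (tw h m'.1 ψ') = tw h m'.1 ψ' → (x : G) ∈ cen P := fun m' x hx =>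
        mem_cen_of_cj_eq h (hirr m') (by rw [hcc m']; exact m'.2) hx
      rw [sumN_self (hirr m) (hst m), sumN_self (hirr n) (hst n)]
      obtain ⟨n₁, hn₁⟩ := sumN_nat (hirr m) (hirr n)
      obtain ⟨n₂, hn₂⟩ := sumN_nat (hirr n) (hirr m)
      rw [hn₁, hn₂]
      have hC : (0 : ℝ) < (Nat.card ↥(cen P) : ℝ) := by exact_mod_cast Nat.card_pos
      have e : (Nat.card ↥(cen P) : ℂ)⁻¹ * ((Nat.card ↥(cen P) : ℂ) - (n₁ : ℂ) -
          ((n₂ : ℂ) - (Nat.card ↥(cen P) : ℂ))) =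
          (((Nat.card ↥(cen P) : ℝ)⁻¹ * ((Nat.card ↥(cen P) : ℝ) - (n₁ : ℝ) -
            ((n₂ : ℝ) - (Nat.card ↥(cen P) : ℝ))) : ℝ) : ℂ) := by
        push_cast; ring
      rw [e, Complex.ofReal_re]
      have h1 : (Nat.card ↥(cen P) : ℝ)⁻¹ * ((Nat.card ↥(cen P) : ℝ) - (n₁ : ℝ) -
            ((n₂ : ℝ) - (Nat.card ↥(cen P) : ℝ))) =
          2 - (Nat.card ↥(cen P) : ℝ)⁻¹ * ((n₁ : ℝ) + (n₂ : ℝ)) := by
        field_simp; ring
      rw [h1]
      have : 0 ≤ (Nat.card ↥(cen P) : ℝ)⁻¹ * ((n₁ : ℝ) + (n₂ : ℝ)) := by positivity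
      linarith
    have hw' : (3 : ℝ) ≤ (D.w : ℝ) := by exact_mod_cast hw
    -- integrality
    by_contra hne'
    have hint : (1 : ℝ) ≤ ((e₁ : ℝ) - (e₂ : ℝ)) ^ 2 := by
      have hz : (e₁ : ℤ) - (e₂ : ℤ) ≠ 0 := by
        intro h0; apply hne'; omega
      have h1 : (1 : ℤ) ≤ ((e₁ : ℤ) - (e₂ : ℤ)) ^ 2 := by
        have := sq_nonneg ((e₁ : ℤ) - (e₂ : ℤ))
        have h2 : ((e₁ : ℤ) - (e₂ : ℤ)) ^ 2 ≠ 0 := pow_ne_zero 2 hz
        omega
      exact_mod_cast h1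
    nlinarith
  -- degree count
  have hΘc := Helper78.IsIrrCharacter.isCharacter (F.irr i)
  have hsum := sum_mult_le_charDegree (isCharacter_res' (P := P) hΘc)
    (fun m : Lam P => tw h m.1 ψ') hirr (fun m n hmn => by
      have hmn' : tw h m.1 ψ' = tw h n.1 ψ' := hmn
      apply Subtype.ext
      rw [← hcc m, ← hcc n, hmn'])
  rw [charDegree_res, hp.deg i] at hsum
  simp only [charDegree_tw] at hsum
  rw [Finset.sum_congr rfl (fun m _ => by rw [heq m μ]), Finset.sum_const, Finset.card_univ,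
    smul_eq_mul] at hsum
  have hq := card_lam' (P := P) h
  have hpos := Helper78.IsIrrCharacter.charDegree_pos hψ'
  by_contra hne0
  have h1 : 1 ≤ mult (res P (F.Θ i)) (tw h μ.1 ψ') * charDegree ψ' :=
    Nat.one_le_iff_ne_zero.mpr (Nat.mul_ne_zero hne0 hpos.ne')
  have : Fintype.card (Lam P) ≤
      Fintype.card (Lam P) * (mult (res P (F.Θ i)) (tw h μ.1 ψ') * charDegree ψ') :=
    Nat.le_mul_of_pos_right _ h1
  omega

/-- **T2**: `P`-trivial irreducible characters of `C` other than the principal one do not occur in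
the exceptional characters -/
theorem mult_eq_zero_of_cchar_eq_one [Fintype (Lam P)] {y : ℕ} (hp : Pinned F y)
    (hw : tt P + 1 ≤ D.w) (hw3 : 3 ≤ D.w) (hy : y + 1 < Nat.card ↥(P : Subgroup G))
    {ψ' : ↥(cen P) → ℂ} (hψ' : IsIrrCharacter ↥(cen P) ψ') (hc : cchar h ψ' = 1)
    (hne : ψ' ≠ hat h 1) (i : Fin D.w) :
    mult (res P (F.Θ i)) ψ' = 0 := by
  classical
  let μ : Lam P := D.r i
  have hirr : IsIrrCharacter ↥(cen P) (tw h μ.1 ψ') := isIrr_tw h μ.1 hψ'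
  have hcc : cchar h (tw h μ.1 ψ') ≠ 1 := by
    rw [cchar_tw h _ hψ', hc]
    intro he
    exact μ.2 ((mul_one μ.1).symm.trans he)
  have hindep : ∀ k : Fin D.w, mult (res P (F.Θ k)) ψ' = mult (res P (F.Θ i)) ψ' := fun k =>
    F.mult_eq_of_ne_hat hψ' (fun l he => by
      rw [he, cchar_hat] at hc
      exact l.2 hc) k i
  obtain ⟨e, he⟩ : ∃ e : ℕ, mult (res P (F.Θ i)) ψ' = e := ⟨_, rfl⟩
  rw [he]
  set U : G → ℂ := indFun (cen P) (ψ' - tw h μ.1 ψ') with hU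
  have hb : ∀ k : Fin D.w, classInner U (F.Θ k) = (((e : ℝ) : ℝ) : ℂ) := by
    intro k
    rw [hU, classInner_ind_sub_irr hψ' hirr (Helper78.IsIrrCharacter.isCharacter (F.irr k)),
      hindep k, he, F.mult_tw_eq_zero hp hw3 hy hψ' hc hne μ k]
    push_cast; ring
  have hbes := bessel U F.Θ F.irr F.inj (fun _ => (e : ℝ)) hb
  rw [Finset.sum_const, Finset.card_univ, Fintype.card_fin, nsmul_eq_mul] at hbes
  have hnorm : ∃ n : ℕ, n ≤ Nat.card ↥(nor P) ∧
      classInner U U = (Nat.card ↥(cen P) : ℂ)⁻¹ * ((n : ℂ) + (Nat.card ↥(cen P) : ℂ)) := by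
    obtain ⟨n, hn, hn'⟩ := sumN_self_bound hψ'
    refine ⟨n, hn, ?_⟩
    rw [hU, norm_ind_sub h _ _ (isSing_sub_tw h _ _), hn',
      sumN_self hirr (fun x hx => mem_cen_of_cj_eq h hirr hcc hx)]
    rw [Finset.sum_eq_zero (fun x _ => classInner_cj_eq_zero_of_cchar h hψ' hirr hc hcc x),
      Finset.sum_eq_zero (fun x _ => classInner_cj_eq_zero_of_cchar' h hψ' hirr hc hcc x)]
    ring
  obtain ⟨n, hn, hnn⟩ := hnorm
  have hC : (0 : ℝ) < (Nat.card ↥(cen P) : ℝ) := by exact_mod_cast Nat.card_pos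
  have hnormre : (classInner U U).re = (Nat.card ↥(cen P) : ℝ)⁻¹ * (n : ℝ) + 1 := by
    rw [hnn]
    have e' : (Nat.card ↥(cen P) : ℂ)⁻¹ * ((n : ℂ) + (Nat.card ↥(cen P) : ℂ)) =
        (((Nat.card ↥(cen P) : ℝ)⁻¹ * ((n : ℝ) + (Nat.card ↥(cen P) : ℝ)) : ℝ) : ℂ) := by
      push_cast; ring
    rw [e', Complex.ofReal_re]
    field_simp
  have hnt : (Nat.card ↥(cen P) : ℝ)⁻¹ * (n : ℝ) ≤ (tt P : ℝ) := by
    have h1 : (n : ℝ) ≤ (tt P : ℝ) * (Nat.card ↥(cen P) : ℝ) := by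
      have : n ≤ tt P * Nat.card ↥(cen P) := by rw [tt_mul_card]; exact hn
      exact_mod_cast this
    rw [inv_mul_le_iff₀ hC]
    linarith
  have hwR : (tt P : ℝ) + 1 ≤ (D.w : ℝ) := by exact_mod_cast hw
  have hwpos : (0 : ℝ) < (D.w : ℝ) := by linarith [(Nat.cast_nonneg (tt P) : (0 : ℝ) ≤ tt P)]
  -- `e ≤ 1`
  by_contra hne0
  have he1 : (1 : ℝ) ≤ (e : ℝ) := by exact_mod_cast Nat.one_le_iff_ne_zero.mpr hne0
  have hsq : (1 : ℝ) ≤ (e : ℝ) ^ 2 := by nlinarith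
  -- equality everywhere
  have heq : U = ∑ k : Fin D.w, ((e : ℝ) : ℂ) • F.Θ k := by
    apply bessel_eq U F.Θ F.irr F.inj (fun _ => (e : ℝ)) hb
    rw [Finset.sum_const, Finset.card_univ, Fintype.card_fin, nsmul_eq_mul]
    nlinarith
  have hU1 : U 1 = 0 := indFun_sub_apply_one (by rw [tw_apply_one])
  rw [heq, Finset.sum_apply] at hU1
  have hy' : ∀ k, F.Θ k 1 = (y : ℂ) := fun k => by
    rw [Helper78.IsCharacter.apply_one_eq_charDegree
      (Helper78.IsIrrCharacter.isCharacter (F.irr k)), hp.deg k]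
  simp only [Pi.smul_apply, smul_eq_mul, hy', Finset.sum_const, Finset.card_univ,
    Fintype.card_fin, nsmul_eq_mul] at hU1
  have hypos : 0 < y := by
    rw [← hp.deg i]
    exact Helper78.IsIrrCharacter.charDegree_pos (F.irr i)
  have hU1' : (D.w : ℝ) * ((e : ℝ) * (y : ℝ)) = 0 := by exact_mod_cast hU1
  have hyR : (0 : ℝ) < (y : ℝ) := by exact_mod_cast hypos
  have : (0 : ℝ) < (D.w : ℝ) * ((e : ℝ) * (y : ℝ)) := by positivity
  linarith

end Fam

end Cfsg.Agent.Lib.Helper52.BL
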