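import Mathlib
import Cfsg.Agent.Lib.Helper52.BL.EndB

/-!
# Brauer–Leonard: second endgame, part 2.
-/

set_option autoImplicit false
set_option linter.style.haveILetI false
set_option linter.unusedSectionVars false
set_option linter.unusedVariables false

namespace Cfsg.Agent.Lib.Helper52.BL

open Cfsg Subgroup
open Cfsg.Agent.Lib.Helper26 Cfsg.Agent.Lib.Helper75
open scoped ComplexConjugate

universe u

variable {G : Type u} [Group G] [Fintype G] {p : ℕ} [Fact p.Prime] {P : Sylow p G}
variable [Fintype ↥(cen P)] [Fintype ↥(nor P)]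

theorem conj_hat (h : Star P) (l : ↥(P : Subgroup G) →* ℂˣ) (c : ↥(cen P)) :
    conj (hat h l c) = hat h l⁻¹ c := by
  have h1 := hat_mul_conj h l c
  have h2 : hat h l⁻¹ c * hat h l c = 1 := by
    rw [← hat_mul]
    have e : l⁻¹ * l = 1 := inv_mul_cancel l
    rw [e, hat_one]
  have hne : hat h l c ≠ 0 := by
    intro h0; rw [h0, zero_mul] at h1; exact zero_ne_one h1
  apply mul_left_cancel₀ hne
  rw [h1, mul_comm, h2]

theorem isClassFunction_orbSum {ψ : ↥(cen P) → ℂ} (hψ : IsClassFunction ↥(cen P) ψ) :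
    IsClassFunction ↥(cen P) (orbSum P ψ) := by
  unfold orbSum
  apply Helper78.isClassFunction_smul
  apply Helper78.isClassFunction_sum
  intro x _
  exact isClassFunction_cj x.2 hψ

theorem isClassFunction_hat (h : Star P) (l : ↥(P : Subgroup G) →* ℂˣ) :
    IsClassFunction ↥(cen P) (hat h l) :=
  Helper78.IsCharacter.isClassFunction (Helper78.IsIrrCharacter.isCharacter (isIrr_hat h l))

namespace Fam

variable {h : Star P} {D : OrbitData P} (F : Fam h D)

/-- **T3**: the restriction of an exceptional character to `C` is the orbit sum -/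
theorem res_eq_orbSum [Fintype (Lam P)] {y : ℕ} (hp : Pinned F y)
    (hw : tt P + 1 ≤ D.w) (hw3 : 3 ≤ D.w) (hy : y + 1 < Nat.card ↥(P : Subgroup G))
    (hd : ∀ i, mult (res P (F.Θ i)) (hat h 1) = 0) (i : Fin D.w) :
    res P (F.Θ i) = orbSum P (hat h (D.r i).1) := by
  classical
  have hΘc := Helper78.IsIrrCharacter.isCharacter (F.irr i)
  have hcl : IsClassFunction ↥(cen P) (res P (F.Θ i) - orbSum P (hat h (D.r i).1)) :=
    Helper78.isClassFunction_sub (isClassFunction_res (Helper78.IsCharacter.isClassFunction hΘc))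
      (isClassFunction_orbSum (isClassFunction_hat h _))
  apply sub_eq_zero.mp
  apply Helper78.eq_zero_of_forall_classInner_irr_eq_zero hcl
  intro ψ
  rw [classInner_sub_left, mult_spec (isCharacter_res' (P := P) hΘc) ψ.2]
  by_cases hex : ∃ l : Lam P, (ψ : ↥(cen P) → ℂ) = hat h l.1
  · obtain ⟨l, hl⟩ := hex
    rw [hl, hp.mult_hat i l, ← classInner_conj_symm, classInner_orbSum_right, sumN_hat h D i l]
    have hC := card_cen_ne_zero (P := P)
    split_ifs
    · rw [inv_mul_cancel₀ hC]; simp
    · simp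
  · push Not at hex
    rw [classInner_orbSum_hat_eq_zero _ ψ.2
      (fun x => hex ⟨_, act_ne_one x (D.r i).2⟩), sub_zero]
    have : mult (res P (F.Θ i)) (ψ : ↥(cen P) → ℂ) = 0 := by
      by_cases hc : cchar h (ψ : ↥(cen P) → ℂ) = 1
      · by_cases h1 : (ψ : ↥(cen P) → ℂ) = hat h 1
        · rw [h1]; exact hd i
        · exact F.mult_eq_zero_of_cchar_eq_one hp hw hw3 hy ψ.2 hc h1 i
      · -- `ψ` is a twist of a `P`-trivial character
        set m := cchar h (ψ : ↥(cen P) → ℂ) with hm
        set ψ' := tw h m⁻¹ (ψ : ↥(cen P) → ℂ) with hψ'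
        have hψ'irr : IsIrrCharacter ↥(cen P) ψ' := isIrr_tw h _ ψ.2
        have hψ'c : cchar h ψ' = 1 := tw_cchar_inv h ψ.2
        have hback : (ψ : ↥(cen P) → ℂ) = tw h m ψ' := by
          rw [hψ', tw_tw]
          have e : m * m⁻¹ = 1 := mul_inv_cancel m
          rw [e, tw_one]
        have hne1 : ψ' ≠ hat h 1 := by
          intro he
          apply hex ⟨m, hc⟩
          rw [hback, he, tw_hat]
          exact congrArg (hat h) (mul_one m)
        rw [hback]
        exact F.mult_tw_eq_zero hp hw3 hy hψ'irr hψ'c hne1 ⟨m, hc⟩ i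
    rw [this]; simp

end Fam

end Cfsg.Agent.Lib.Helper52.BL
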