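import Mathlib
import Cfsg.Agent.Lib.Helper52.BL.EndC

/-!
# Brauer–Leonard: second endgame, part 3 (the final contradiction).
-/

set_option autoImplicit false
set_option linter.style.haveILetI false
set_option linter.unusedSectionVars false
set_option linter.unusedVariables false

namespace Cfsg.Agent.Lib.Helper52.BL

open Cfsg Subgroup
open Cfsg.Agent.Lib.Helper26 Cfsg.Agent.Lib.Helper75
open scoped ComplexConjugate

universe u

variable {G : Type u} [Group G] [Fintype G] {p : ℕ} [Fact p.Prime] {P : Sylow p G}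
variable [Fintype ↥(cen P)] [Fintype ↥(nor P)]

/-- `X * conj X` as a function -/
noncomputable def mulConj (X : G → ℂ) : G → ℂ := fun g => X g * conj (X g)

theorem isCharacter_mulConj {X : G → ℂ} (hX : IsCharacter G X) : IsCharacter G (mulConj X) :=
  Helper80.isCharacter_mul hX (Helper80.isCharacter_conj hX)

theorem classInner_mulConj_one (X : G → ℂ) :
    classInner (mulConj X) (fun _ => (1 : ℂ)) = classInner X X := by
  unfold classInner mulConj
  congr 1
  apply Finset.sum_congr rfl
  intro g _
  simp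

theorem classInner_res_mulConj_hat_one (h : Star P) (X : G → ℂ) :
    classInner (res P (mulConj X)) (hat h 1) = classInner (res P X) (res P X) := by
  rw [hat_one]
  unfold classInner mulConj res
  congr 1
  apply Finset.sum_congr rfl
  intro g _
  simp

theorem charDegree_mulConj {X : G → ℂ} (hX : IsCharacter G X) :
    charDegree (mulConj X) = charDegree X * charDegree X := by
  apply Helper80.charDegree_natCast
  unfold mulConj
  rw [Helper78.IsCharacter.apply_one_eq_charDegree hX]
  simp

/-- inner product of the restriction of a character with an irreducible character of `C`, through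
the irreducible constituents -/
theorem classInner_res_eq_sum {W : G → ℂ} (hW : IsCharacter G W) {ψ : ↥(cen P) → ℂ}
    (hψ : IsIrrCharacter ↥(cen P) ψ) :
    classInner (res P W) ψ = ((∑ Z : IrrCharacter G,
      mult W (Z : G → ℂ) * mult (res P (Z : G → ℂ)) ψ : ℕ) : ℂ) := by
  have h1 : res P W = ∑ Z : IrrCharacter G, (mult W (Z : G → ℂ) : ℂ) • res P (Z : G → ℂ) := by
    funext c
    have := congrFun (eq_sum_mult hW) (c : G)
    rw [Finset.sum_apply] at this
    rw [Finset.sum_apply]
    exact this
  rw [h1, classInner_sum_left]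
  push_cast
  apply Finset.sum_congr rfl
  intro Z _
  rw [classInner_smul_left, mult_spec (isCharacter_res' (P := P)
    (Helper78.IsIrrCharacter.isCharacter Z.2)) hψ]

/-- the restriction to `C` of `Θ * conj Θ`, when `Θ|_C` is an orbit sum of linear characters, only
involves linear characters of the form `hat l` -/
theorem classInner_orbSum_mulConj_eq_zero (h : Star P) (r : ↥(P : Subgroup G) →* ℂˣ)
    {ψ : ↥(cen P) → ℂ} (hψ : IsIrrCharacter ↥(cen P) ψ)
    (hne : ∀ l : ↥(P : Subgroup G) →* ℂˣ, ψ ≠ hat h l) :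
    classInner (fun c => orbSum P (hat h r) c * conj (orbSum P (hat h r) c)) ψ = 0 := by
  have h1 : (fun c => orbSum P (hat h r) c * conj (orbSum P (hat h r) c)) =
      ∑ x : ↥(nor P), ∑ y : ↥(nor P),
        ((Nat.card ↥(cen P) : ℂ)⁻¹ * (Nat.card ↥(cen P) : ℂ)⁻¹) •
          hat h (act x r * (act y r)⁻¹) := by
    funext c
    have e1 : orbSum P (hat h r) c =
        (Nat.card ↥(cen P) : ℂ)⁻¹ * ∑ x : ↥(nor P), hat h (act x r) c := by
      unfold orbSum
      simp only [Pi.smul_apply, Finset.sum_apply, smul_eq_mul, cj_hat]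
    have e2 : conj (orbSum P (hat h r) c) =
        (Nat.card ↥(cen P) : ℂ)⁻¹ * ∑ y : ↥(nor P), hat h (act y r)⁻¹ c := by
      rw [e1, map_mul, map_inv₀, Complex.conj_natCast, map_sum]
      simp only [conj_hat]
    rw [e2, e1]
    simp only [Finset.sum_apply, Pi.smul_apply, smul_eq_mul, hat_mul]
    rw [mul_mul_mul_comm, Finset.sum_mul_sum, Finset.mul_sum]
    apply Finset.sum_congr rfl
    intro x _
    rw [Finset.mul_sum]
  rw [h1, classInner_sum_left]
  apply Finset.sum_eq_zero
  intro x _
  rw [classInner_sum_left]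
  apply Finset.sum_eq_zero
  intro y _
  rw [classInner_smul_left, Helper78.classInner_irr_ne (isIrr_hat h _) hψ (fun he => hne _ he.symm),
    mul_zero]

namespace Fam

variable {h : Star P} {D : OrbitData P} (F : Fam h D)

/-- **second endgame** -/
theorem false_of_mult_one_eq_zero [Fintype (Lam P)] {y : ℕ} (hp : Pinned F y)
    (hw : tt P + 1 ≤ D.w) (ht : 2 ≤ tt P) (hy : y + 1 < Nat.card ↥(P : Subgroup G))
    (H0 : ∀ Z : G → ℂ, IsIrrCharacter G Z → Z ≠ (fun _ => 1) →
      ∃ x ∈ (P : Subgroup G), Z x ≠ Z 1)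
    (hd : ∀ i, mult (res P (F.Θ i)) (hat h 1) = 0) (i₀ : Fin D.w) : False := by
  classical
  have hw3 : 3 ≤ D.w := by omega
  have hq := w_mul_tt h D
  set Θ := F.Θ i₀ with hΘ
  have hΘirr : IsIrrCharacter G Θ := F.irr i₀
  have hΘc := Helper78.IsIrrCharacter.isCharacter hΘirr
  have hres : res P Θ = orbSum P (hat h (D.r i₀).1) := F.res_eq_orbSum hp hw hw3 hy hd i₀
  -- `y = t`
  have hyt : y = tt P := by
    rw [← hp.deg i₀]
    apply Helper80.charDegree_natCast
    show res P (F.Θ i₀) 1 = _
    rw [← hΘ, hres, orbSum_apply_one, hat_apply_one, mul_one]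
  set W := mulConj Θ with hW
  have hWc : IsCharacter G W := isCharacter_mulConj hΘc
  have hWdeg : charDegree W = tt P * tt P := by
    rw [hW, charDegree_mulConj hΘc, hΘ, hp.deg i₀, hyt]
  -- `⟨W|_C, 1_C⟩ = t`
  have h1 : classInner (res P W) (hat h 1) = (tt P : ℂ) := by
    rw [hW, classInner_res_mulConj_hat_one, hres]
    exact classInner_orbSum_orbSum (isIrr_hat h _) (stab_hat h (D.r i₀))
  -- constituents of `W|_C` are of the form `hat l`
  have h2 : ∀ ψ : ↥(cen P) → ℂ, IsIrrCharacter ↥(cen P) ψ →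
      (∀ l : ↥(P : Subgroup G) →* ℂˣ, ψ ≠ hat h l) → classInner (res P W) ψ = 0 := by
    intro ψ hψ hne
    have : res P W = fun c => orbSum P (hat h (D.r i₀).1) c *
        conj (orbSum P (hat h (D.r i₀).1) c) := by
      funext c
      show Θ c * conj (Θ c) = _
      have e : Θ c = res P Θ c := rfl
      rw [e, hres]
    rw [this]
    exact classInner_orbSum_mulConj_eq_zero h _ hψ hne
  -- the principal character occurs once in `W`
  have h3 : mult W (fun _ => (1 : ℂ)) = 1 := by
    have := mult_spec hWc (Helper78.isIrrCharacter_one (G := G))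
    rw [hW, classInner_mulConj_one, Helper78.classInner_irr_self hΘirr] at this
    exact_mod_cast this.symm
  -- non-principal constituents of `W` do not involve `1_C`
  have h4 : ∀ Z : IrrCharacter G, (Z : G → ℂ) ≠ (fun _ => 1) → mult W (Z : G → ℂ) ≠ 0 →
      mult (res P (Z : G → ℂ)) (hat h 1) = 0 := by
    intro Z hZ1 hZm
    have hZc := Helper78.IsIrrCharacter.isCharacter Z.2
    obtain ⟨x, hxP, hx⟩ := H0 _ Z.2 hZ1
    have hex : ∃ ψ : ↥(cen P) → ℂ, IsIrrCharacter ↥(cen P) ψ ∧
        mult (res P (Z : G → ℂ)) ψ ≠ 0 ∧ cchar h ψ ≠ 1 := by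
      by_contra hcon
      push Not at hcon
      exact hx (apply_eq_of_forall_cchar h hZc (fun ψ hψ hm => hcon ψ hψ hm) x hxP)
    obtain ⟨ψ, hψ, hψm, hψc⟩ := hex
    -- `ψ` occurs in `W|_C`
    have hψW : classInner (res P W) ψ ≠ 0 := by
      rw [classInner_res_eq_sum hWc hψ]
      have : 1 ≤ ∑ Z : IrrCharacter G, mult W (Z : G → ℂ) * mult (res P (Z : G → ℂ)) ψ := by
        have h5 : 1 ≤ mult W (Z : G → ℂ) * mult (res P (Z : G → ℂ)) ψ :=
          Nat.one_le_iff_ne_zero.mpr (Nat.mul_ne_zero hZm hψm)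
        exact h5.trans (Finset.single_le_sum (f := fun Z : IrrCharacter G =>
          mult W (Z : G → ℂ) * mult (res P (Z : G → ℂ)) ψ) (fun _ _ => Nat.zero_le _)
          (Finset.mem_univ Z))
      have : (∑ Z : IrrCharacter G, mult W (Z : G → ℂ) * mult (res P (Z : G → ℂ)) ψ) ≠ 0 := by
        omega
      exact_mod_cast this
    obtain ⟨l, hl⟩ : ∃ l : ↥(P : Subgroup G) →* ℂˣ, ψ = hat h l := by
      by_contra hcon
      push Not at hcon
      exact hψW (h2 ψ hψ hcon)
    have hl1 : l ≠ 1 := by
      intro he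
      apply hψc
      rw [hl, cchar_hat, he]
    rw [hl] at hψm
    -- `Z` is an exceptional character
    have hZΘ : ∃ k, F.Θ k = (Z : G → ℂ) := by
      by_contra hcon
      push Not at hcon
      have hall : ∀ l' : Lam P, mult (res P (Z : G → ℂ)) (hat h l'.1) =
          mult (res P (Z : G → ℂ)) (hat h l) := by
        intro l'
        have := F.mult_sub l' ⟨l, hl1⟩ Z.2
        rw [if_neg (hcon _), if_neg (hcon _), sub_zero, mul_zero, sub_eq_zero] at this
        exact_mod_cast this
      have hsum := sum_mult_hat_le h (isCharacter_res' (P := P) hZc)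
      rw [Finset.sum_congr rfl (fun l' _ => hall l'), Finset.sum_const, Finset.card_univ,
        smul_eq_mul, charDegree_res] at hsum
      have hq' := card_lam' (P := P) h
      have h6 : 1 ≤ mult (res P (Z : G → ℂ)) (hat h l) := Nat.one_le_iff_ne_zero.mpr hψm
      have h7 : Fintype.card (Lam P) ≤
          Fintype.card (Lam P) * mult (res P (Z : G → ℂ)) (hat h l) :=
        Nat.le_mul_of_pos_right _ h6
      have h8 := mult_le_charDegree hWc Z.2
      rw [hWdeg] at h8
      have h9 : charDegree (Z : G → ℂ) ≤ tt P * tt P := by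
        have : 1 ≤ mult W (Z : G → ℂ) := Nat.one_le_iff_ne_zero.mpr hZm
        calc charDegree (Z : G → ℂ) ≤ mult W (Z : G → ℂ) * charDegree (Z : G → ℂ) :=
              Nat.le_mul_of_pos_left _ this
          _ ≤ tt P * tt P := h8
      have h10 : (tt P + 1) * tt P ≤ D.w * tt P := Nat.mul_le_mul_right _ hw
      have h11 : (tt P + 1) * tt P = tt P * tt P + tt P := by ring
      omega
    obtain ⟨k, hk⟩ := hZΘ
    rw [← hk]
    exact hd k
  -- conclusion: `t = 1`
  have h5 := classInner_res_eq_sum (P := P) hWc (isIrr_hat h 1)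
  rw [h1] at h5
  have h6 : ∑ Z : IrrCharacter G, mult W (Z : G → ℂ) * mult (res P (Z : G → ℂ)) (hat h 1) = 1 := by
    rw [Finset.sum_eq_single (⟨fun _ => 1, Helper78.isIrrCharacter_one⟩ : IrrCharacter G)]
    · simp only
      rw [h3, one_mul, res_one_fun (h := h), mult_irr (isIrr_hat h 1) (isIrr_hat h 1), if_pos rfl]
    · intro Z _ hZne
      have hZ1 : (Z : G → ℂ) ≠ (fun _ => 1) := fun he => hZne (Subtype.ext he)
      by_cases hm : mult W (Z : G → ℂ) = 0
      · rw [hm, zero_mul]
      · rw [h4 Z hZ1 hm, mul_zero]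
    · intro hni; exact absurd (Finset.mem_univ _) hni
  rw [h6] at h5
  have : tt P = 1 := by exact_mod_cast h5
  omega

end Fam

end Cfsg.Agent.Lib.Helper52.BL
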