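import Mathlib
import Cfsg.Agent.Lib.Helper52.BL.EndD

/-!
# Brauer–Leonard: the main case (`t ≥ 2`) leads to a contradiction.
-/

set_option autoImplicit false
set_option linter.style.haveILetI false
set_option linter.unusedSectionVars false
set_option linter.unusedVariables false

namespace Cfsg.Agent.Lib.Helper52.BL

open Cfsg Subgroup
open Cfsg.Agent.Lib.Helper26 Cfsg.Agent.Lib.Helper75
open scoped ComplexConjugate

universe u

/-- a generalized character of norm `2` vanishing at `1` is a difference of two distinct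
irreducible characters -/
theorem exists_sub_of_norm_two {K : Type u} [Group K] [Fintype K] {A : K → ℂ}
    (hA : IsGeneralizedCharacter K A) (h1 : A 1 = 0) (h2 : classInner A A = 2) :
    ∃ Z₁ Z₂ : K → ℂ, IsIrrCharacter K Z₁ ∧ IsIrrCharacter K Z₂ ∧ Z₁ ≠ Z₂ ∧ A = Z₁ - Z₂ := by
  let τ : Fin 2 → K → ℂ := ![0, A]
  have hτ0 : τ 0 = 0 := rfl
  have hτ1 : τ 1 = A := rfl
  have hgen : ∀ i, IsGeneralizedCharacter K (τ i) := by
    intro i
    fin_cases i
    · exact gen_zero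
    · exact hA
  have hone : ∀ i, τ i 1 = 0 := by
    intro i
    fin_cases i
    · rfl
    · exact h1
  have hgram : ∀ i j : Fin 2, i ≠ 0 → j ≠ 0 →
      classInner (τ i) (τ j) = if i = j then 2 else 1 := by
    intro i j hi hj
    have hi1 : i = 1 := by
      fin_cases i
      · exact absurd rfl hi
      · rfl
    have hj1 : j = 1 := by
      fin_cases j
      · exact absurd rfl hj
      · rfl
    rw [hi1, hj1, hτ1, h2, if_pos rfl]
  obtain ⟨ε, hε, μ, hirr, hinj, hτ⟩ := Cfsg.Agent.S0198.result 2 0 τ hτ0 hgen hone hgram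
  have hA' : A = ε • (μ 1 - μ 0) := by rw [← hτ 1, hτ1]
  have hne : μ 1 ≠ μ 0 := fun he => by
    have := hinj he
    exact absurd this (by decide)
  rcases hε with hε | hε
  · exact ⟨μ 1, μ 0, hirr 1, hirr 0, hne, by rw [hA', hε, one_smul]⟩
  · refine ⟨μ 0, μ 1, hirr 0, hirr 1, hne.symm, ?_⟩
    rw [hA', hε]
    simp

variable {G : Type u} [Group G] [Fintype G] {p : ℕ} [Fact p.Prime] {P : Sylow p G}
variable [Fintype ↥(cen P)] [Fintype ↥(nor P)]

/-- the hypothesis "no proper normal subgroup contains `P`", in character form -/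
def NoKer (P : Sylow p G) : Prop :=
  ∀ Z : G → ℂ, IsIrrCharacter G Z → Z ≠ (fun _ => 1) → ∃ x ∈ (P : Subgroup G), Z x ≠ Z 1

theorem classInner_orbSum_left_eq_zero (h : Star P) {ψ ψ' : ↥(cen P) → ℂ}
    (hψ : IsIrrCharacter ↥(cen P) ψ) (hψ' : IsIrrCharacter ↥(cen P) ψ')
    (hc : cchar h ψ = 1) (hc' : cchar h ψ' ≠ 1) :
    classInner (orbSum P ψ') ψ = 0 := by
  rw [← classInner_conj_symm, classInner_orbSum_right,
    Finset.sum_eq_zero (fun x _ => classInner_cj_eq_zero_of_cchar h hψ hψ' hc hc' x)]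
  simp

theorem charDegree_eq_of_res_eq_orbSum {X : G → ℂ} {ψ₀ : ↥(cen P) → ℂ}
    (hψ₀ : IsCharacter ↥(cen P) ψ₀) (hres : res P X = orbSum P ψ₀) :
    charDegree X = tt P * charDegree ψ₀ := by
  apply Helper80.charDegree_natCast
  show res P X 1 = _
  rw [hres, orbSum_apply_one, Helper78.IsCharacter.apply_one_eq_charDegree hψ₀]
  push_cast; ring

/-- if `X|_C` is an orbit sum of type-1 characters, the `P`-trivial characters do not occur -/
theorem mult_eq_zero_of_res_eq_orbSum (h : Star P) {X : G → ℂ} (hX : IsCharacter G X)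
    {ψ₁ ψ : ↥(cen P) → ℂ} (hψ₁ : IsIrrCharacter ↥(cen P) ψ₁) (hne : cchar h ψ₁ ≠ 1)
    (hres : res P X = orbSum P ψ₁) (hψ : IsIrrCharacter ↥(cen P) ψ) (hc : cchar h ψ = 1) :
    mult (res P X) ψ = 0 := by
  have h1 : classInner (res P X) ψ = 0 := by
    rw [hres]; exact classInner_orbSum_left_eq_zero h hψ hψ₁ hc hne
  have := mult_spec (isCharacter_res' (P := P) hX) hψ
  rw [h1] at this
  exact_mod_cast this.symm

/-- **case `s = 1`** -/
theorem false_of_stab_le (h : Star P) {X : G → ℂ} (hX : IsIrrCharacter G X)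
    (hdeg : charDegree X ^ 2 + 1 < Nat.card ↥(P : Subgroup G))
    {ψ₀ : ↥(cen P) → ℂ} (hψ₀ : IsIrrCharacter ↥(cen P) ψ₀) (hne : cchar h ψ₀ ≠ 1)
    (hres : res P X = orbSum P ψ₀) (hm : mult (res P X) ψ₀ = 1) (ht : 2 ≤ tt P) (H0 : NoKer P)
    (hstab : ∀ x : ↥(nor P), cj (x : G) (tw h (cchar h ψ₀)⁻¹ ψ₀) = tw h (cchar h ψ₀)⁻¹ ψ₀ →
      (x : G) ∈ cen P) : False := by
  classical
  have hXc := Helper78.IsIrrCharacter.isCharacter hX
  obtain ⟨l₀, hl₀⟩ : ∃ l, l = cchar h ψ₀ := ⟨_, rfl⟩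
  rw [← hl₀] at hstab hne
  obtain ⟨ψ', hψ'⟩ : ∃ ψ', ψ' = tw h l₀⁻¹ ψ₀ := ⟨_, rfl⟩
  rw [← hψ'] at hstab
  have hψ'irr : IsIrrCharacter ↥(cen P) ψ' := by rw [hψ']; exact isIrr_tw h _ hψ₀
  have hψ'c : cchar h ψ' = 1 := by rw [hψ', hl₀]; exact tw_cchar_inv h hψ₀
  have hback : ψ₀ = tw h l₀ ψ' := by
    rw [hψ', tw_tw]
    have e : l₀ * l₀⁻¹ = 1 := mul_inv_cancel l₀
    rw [e, tw_one]
  have hne' : cchar h ψ₀ ≠ 1 := by rw [← hl₀]; exact hne
  set A : G → ℂ := indFun (cen P) (ψ' - ψ₀) with hA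
  have hS : IsSing (ψ' - ψ₀) := by rw [hback]; exact isSing_sub_tw h _ _
  have hnorm : classInner A A = 2 := by
    rw [hA, norm_ind_sub h _ _ hS, sumN_self hψ'irr hstab,
      sumN_self hψ₀ (fun x hx => mem_cen_of_cj_eq h hψ₀ hne' hx),
      Finset.sum_eq_zero (fun x _ => classInner_cj_eq_zero_of_cchar h hψ'irr hψ₀ hψ'c hne' x),
      Finset.sum_eq_zero (fun x _ => classInner_cj_eq_zero_of_cchar' h hψ'irr hψ₀ hψ'c hne' x)]
    field_simp [card_cen_ne_zero (P := P)]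
    ring
  have hgen : IsGeneralizedCharacter G A :=
    isGen_indFun_sub (Helper78.IsIrrCharacter.isCharacter hψ'irr)
      (Helper78.IsIrrCharacter.isCharacter hψ₀)
  have hA1 : A 1 = 0 := indFun_sub_apply_one (by rw [hψ', tw_apply_one])
  obtain ⟨Z₁, Z₂, hZ₁, hZ₂, hZne, hAZ⟩ := exists_sub_of_norm_two hgen hA1 hnorm
  -- `⟨A, X⟩ = -1`
  have hAX : classInner A X = -1 := by
    rw [hA, classInner_ind_sub_irr hψ'irr hψ₀ hXc, hm,
      mult_eq_zero_of_res_eq_orbSum h hXc hψ₀ hne' hres hψ'irr hψ'c]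
    simp
  rw [hAZ, classInner_sub_left, Helper78.classInner_irr hZ₁ hX, Helper78.classInner_irr hZ₂ hX]
    at hAX
  have hZ₂X : Z₂ = X := by
    by_contra hcon
    rw [if_neg hcon] at hAX
    split_ifs at hAX <;> norm_num at hAX
  have hZ₁X : Z₁ ≠ X := fun he => hZne (he.trans hZ₂X.symm)
  -- `Δ = Z₁` has the same degree as `X`
  have hdegΔ : charDegree Z₁ = charDegree X := by
    have : Z₁ 1 = X 1 := by
      have := congrFun hAZ 1
      rw [hA1, Pi.sub_apply, hZ₂X] at this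
      exact (sub_eq_zero.mp this.symm)
    unfold charDegree
    rw [this]
  have hZ₁c := Helper78.IsIrrCharacter.isCharacter hZ₁
  have hAΔ : classInner A Z₁ = 1 := by
    rw [hAZ, classInner_sub_left, Helper78.classInner_irr_self hZ₁,
      Helper78.classInner_irr_ne hZ₂ hZ₁ hZne.symm]
    ring
  rw [hA, classInner_ind_sub_irr hψ'irr hψ₀ hZ₁c] at hAΔ
  by_cases hex : ∃ ψ₁ : ↥(cen P) → ℂ, IsIrrCharacter ↥(cen P) ψ₁ ∧
      mult (res P Z₁) ψ₁ ≠ 0 ∧ cchar h ψ₁ ≠ 1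
  · obtain ⟨ψ₁, hψ₁, hψ₁m, hψ₁c⟩ := hex
    obtain ⟨hresΔ, -⟩ := res_eq_orbSum h hZ₁ (by rw [hdegΔ]; exact hdeg) hψ₁ hψ₁c hψ₁m
    rw [mult_eq_zero_of_res_eq_orbSum h hZ₁c hψ₁ hψ₁c hresΔ hψ'irr hψ'c] at hAΔ
    have : ((mult (res P Z₁) ψ₀ + 1 : ℕ) : ℂ) = 0 := by
      push_cast
      have e : (mult (res P Z₁) ψ₀ : ℂ) = -1 := by
        have := hAΔ
        simp only [Nat.cast_zero, zero_sub] at this
        rw [← this]; ring
      rw [e]; ring
    have : mult (res P Z₁) ψ₀ + 1 = 0 := by exact_mod_cast this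
    omega
  · push Not at hex
    have hker : ∀ x ∈ (P : Subgroup G), Z₁ x = Z₁ 1 := fun x hx =>
      apply_eq_of_forall_cchar h hZ₁c hex x hx
    have hZ₁one : Z₁ = fun _ => 1 := by
      by_contra hcon
      obtain ⟨x, hx, hxne⟩ := H0 Z₁ hZ₁ hcon
      exact hxne (hker x hx)
    have h1 : charDegree Z₁ = 1 := Helper80.charDegree_natCast (by rw [hZ₁one]; simp)
    have h2 := charDegree_eq_of_res_eq_orbSum (X := X)
      (Helper78.IsIrrCharacter.isCharacter hψ₀) hres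
    have h3 := Helper78.IsIrrCharacter.charDegree_pos hψ₀
    rw [hdegΔ, h2] at h1
    have : 2 * 1 ≤ tt P * charDegree ψ₀ := Nat.mul_le_mul ht h3
    omega

end Cfsg.Agent.Lib.Helper52.BL
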