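import Mathlib
import Cfsg.Agent.Lib.Helper52.BL.Main

/-!
# Brauer–Leonard: the main case (`t ≥ 2`), assembly.
-/

set_option autoImplicit false
set_option linter.style.haveILetI false
set_option linter.unusedSectionVars false
set_option linter.unusedVariables false

namespace Cfsg.Agent.Lib.Helper52.BL

open Cfsg Subgroup
open Cfsg.Agent.Lib.Helper26 Cfsg.Agent.Lib.Helper75
open scoped ComplexConjugate

universe u

variable {G : Type u} [Group G] [Fintype G] {p : ℕ} [Fact p.Prime] {P : Sylow p G}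
variable [Fintype ↥(cen P)] [Fintype ↥(nor P)]

theorem classInner_res_mulConj_hat (h : Star P) (X : G → ℂ) (m : ↥(P : Subgroup G) →* ℂˣ) :
    classInner (res P (mulConj X)) (hat h m) = classInner (res P X) (tw h m (res P X)) := by
  unfold classInner mulConj res tw
  congr 1
  apply Finset.sum_congr rfl
  intro c _
  rw [map_mul]
  ring

theorem isCharacter_tw (h : Star P) (m : ↥(P : Subgroup G) →* ℂˣ) {A : ↥(cen P) → ℂ}
    (hA : IsCharacter ↥(cen P) A) : IsCharacter ↥(cen P) (tw h m A) :=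
  Helper80.isCharacter_mul (Helper78.IsIrrCharacter.isCharacter (isIrr_hat h m)) hA

theorem mult_tw_tw (h : Star P) (m : ↥(P : Subgroup G) →* ℂˣ) {A ψ : ↥(cen P) → ℂ}
    (hA : IsCharacter ↥(cen P) A) (hψ : IsIrrCharacter ↥(cen P) ψ) :
    mult (tw h m A) (tw h m ψ) = mult A ψ := by
  have h1 := mult_spec (isCharacter_tw h m hA) (isIrr_tw h m hψ)
  rw [classInner_tw_tw, mult_spec hA hψ] at h1
  exact_mod_cast h1.symm

/-- **case `s ≥ 2`**: a small irreducible character involving a non-principal `hat μ` -/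
theorem exists_small_of_stab (h : Star P) {X : G → ℂ} (hX : IsIrrCharacter G X)
    {ψ₀ : ↥(cen P) → ℂ} (hψ₀ : IsIrrCharacter ↥(cen P) ψ₀) (hne : cchar h ψ₀ ≠ 1)
    (hm : mult (res P X) ψ₀ = 1) (x₁ : ↥(nor P)) (hx₁C : (x₁ : G) ∉ cen P)
    (hx₁ : cj (x₁ : G) (tw h (cchar h ψ₀)⁻¹ ψ₀) = tw h (cchar h ψ₀)⁻¹ ψ₀) :
    ∃ Y : G → ℂ, IsIrrCharacter G Y ∧ ∃ μ₁ : Lam P, mult (res P Y) (hat h μ₁.1) ≠ 0 ∧
      charDegree Y + 1 ≤ charDegree X ^ 2 := by
  classical
  have hXc := Helper78.IsIrrCharacter.isCharacter hX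
  have hXcl := Helper78.IsCharacter.isClassFunction hXc
  obtain ⟨l₀, hl₀⟩ : ∃ l, l = cchar h ψ₀ := ⟨_, rfl⟩
  rw [← hl₀] at hx₁ hne
  -- the twisting character
  let μ : ↥(P : Subgroup G) →* ℂˣ := act x₁ l₀ * l₀⁻¹
  have hμ1 : μ ≠ 1 := by
    intro he
    apply hx₁C
    apply mem_cen_of_act_eq h hne
    have : act x₁ l₀ * l₀⁻¹ = 1 := he
    exact mul_inv_eq_one.mp this
  have hcjψ₀ : cj (x₁ : G) ψ₀ = tw h μ ψ₀ := by
    have hback : ψ₀ = tw h l₀ (tw h l₀⁻¹ ψ₀) := by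
      rw [tw_tw]
      have e : l₀ * l₀⁻¹ = 1 := mul_inv_cancel l₀
      rw [e, tw_one]
    conv_lhs => rw [hback]
    rw [cj_tw, hx₁, tw_tw]
  have hm2 : mult (res P X) (tw h μ ψ₀) = 1 := by
    have h1 := mult_spec (isCharacter_res' (P := P) hXc) (isIrr_tw h μ hψ₀)
    have h2 : classInner (res P X) (tw h μ ψ₀) = classInner (res P X) ψ₀ := by
      rw [← hcjψ₀, classInner_res_cj hXcl x₁ ψ₀]
    rw [h2, mult_spec (isCharacter_res' (P := P) hXc) hψ₀, hm] at h1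
    exact_mod_cast h1.symm
  set W := mulConj X with hW
  have hWc : IsCharacter G W := isCharacter_mulConj hXc
  -- `⟨W|_C, hat μ⟩ ≥ 1`
  have hres' := isCharacter_res' (P := P) hXc
  have htwc := isCharacter_tw h μ hres'
  have h1 : classInner (res P W) (hat h μ) = ((∑ ψ : IrrCharacter ↥(cen P),
      mult (res P X) (ψ : ↥(cen P) → ℂ) * mult (tw h μ (res P X)) (ψ : ↥(cen P) → ℂ) : ℕ) : ℂ) := by
    rw [hW, classInner_res_mulConj_hat, classInner_eq_sum_mult hres' htwc]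
  have h2 := mult_mul_mult_le hres' htwc (isIrr_tw h μ hψ₀) _
    (classInner_eq_sum_mult hres' htwc)
  rw [hm2, mult_tw_tw h μ hres' hψ₀, hm] at h2
  rw [classInner_res_eq_sum hWc (isIrr_hat h μ)] at h1
  have h3 : 1 ≤ ∑ Z : IrrCharacter G,
      mult W (Z : G → ℂ) * mult (res P (Z : G → ℂ)) (hat h μ) := by
    have : (∑ Z : IrrCharacter G,
      mult W (Z : G → ℂ) * mult (res P (Z : G → ℂ)) (hat h μ)) = ∑ ψ : IrrCharacter ↥(cen P),
      mult (res P X) (ψ : ↥(cen P) → ℂ) * mult (tw h μ (res P X)) (ψ : ↥(cen P) → ℂ) := by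
      exact_mod_cast h1
    rw [this]; exact h2
  obtain ⟨Y, -, hYpos⟩ : ∃ Y ∈ (Finset.univ : Finset (IrrCharacter G)),
      0 < mult W (Y : G → ℂ) * mult (res P (Y : G → ℂ)) (hat h μ) := by
    by_contra hcon
    push Not at hcon
    have : ∑ Z : IrrCharacter G,
        mult W (Z : G → ℂ) * mult (res P (Z : G → ℂ)) (hat h μ) = 0 :=
      Finset.sum_eq_zero (fun Z hZ => Nat.le_zero.mp (hcon Z hZ))
    omega
  have hYW : mult W (Y : G → ℂ) ≠ 0 := fun he => by rw [he, zero_mul] at hYpos; omega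
  have hYμ : mult (res P (Y : G → ℂ)) (hat h μ) ≠ 0 := fun he => by
    rw [he, mul_zero] at hYpos; omega
  refine ⟨Y, Y.2, ⟨μ, hμ1⟩, hYμ, ?_⟩
  -- `Y` is not principal
  have hY1 : (Y : G → ℂ) ≠ fun _ => 1 := by
    intro he
    apply hYμ
    rw [he, Fam.res_one_fun (h := h), mult_irr (isIrr_hat h 1) (isIrr_hat h μ), if_neg]
    intro he'
    exact hμ1 (hat_injective h he').symm
  -- degrees
  have hW1 : mult W (fun _ => (1 : ℂ)) = 1 := by
    have := mult_spec hWc (Helper78.isIrrCharacter_one (G := G))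
    rw [hW, classInner_mulConj_one, Helper78.classInner_irr_self hX] at this
    exact_mod_cast this.symm
  have hsum := sum_mult_le_charDegree hWc
    (fun b : Bool => if b then (Y : G → ℂ) else fun _ => 1)
    (fun b => by
      cases b
      · exact Helper78.isIrrCharacter_one
      · exact Y.2)
    (fun b b' hbb => by
      cases b <;> cases b'
      · rfl
      · exact absurd hbb.symm hY1
      · exact absurd hbb hY1
      · rfl)
  rw [Fintype.sum_bool] at hsum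
  simp only [if_true, Bool.false_eq_true, if_false] at hsum
  rw [hW1, hW, charDegree_mulConj hXc] at hsum
  have hone : charDegree (fun _ : G => (1 : ℂ)) = 1 := Helper80.charDegree_natCast (by simp)
  rw [hone] at hsum
  have hYdeg : charDegree (Y : G → ℂ) ≤ mult (mulConj X) (Y : G → ℂ) * charDegree (Y : G → ℂ) :=
    Nat.le_mul_of_pos_left _ (Nat.pos_of_ne_zero hYW)
  rw [sq]
  omega

/-- **the main case**: `t ≥ 2` is impossible -/
theorem main_case (h : Star P) {X : G → ℂ} (hX : IsIrrCharacter G X)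
    (hdeg : charDegree X ^ 2 + 1 < Nat.card ↥(P : Subgroup G))
    {ψ₀ : ↥(cen P) → ℂ} (hψ₀ : IsIrrCharacter ↥(cen P) ψ₀) (hne : cchar h ψ₀ ≠ 1)
    (hres : res P X = orbSum P ψ₀) (hm : mult (res P X) ψ₀ = 1) (ht : 2 ≤ tt P) (H0 : NoKer P) :
    False := by
  classical
  by_cases hstab : ∀ x : ↥(nor P),
      cj (x : G) (tw h (cchar h ψ₀)⁻¹ ψ₀) = tw h (cchar h ψ₀)⁻¹ ψ₀ → (x : G) ∈ cen P
  · exact false_of_stab_le h hX hdeg hψ₀ hne hres hm ht H0 hstab
  · push Not at hstab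
    obtain ⟨x₁, hx₁, hx₁C⟩ := hstab
    obtain ⟨Y, hY, μ₁, hYμ, hYdeg⟩ := exists_small_of_stab h hX hψ₀ hne hm x₁ hx₁C hx₁
    obtain ⟨D⟩ := exists_orbitData h
    have hq := w_mul_tt h D
    have hf := charDegree_eq_of_res_eq_orbSum (X := X)
      (Helper78.IsIrrCharacter.isCharacter hψ₀) hres
    have hk := Helper78.IsIrrCharacter.charDegree_pos hψ₀
    obtain ⟨k, hk'⟩ : ∃ k, charDegree ψ₀ = k := ⟨_, rfl⟩
    obtain ⟨f, hf'⟩ : ∃ f, charDegree X = f := ⟨_, rfl⟩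
    obtain ⟨yy, hyy⟩ : ∃ yy, charDegree Y = yy := ⟨_, rfl⟩
    rw [hk'] at hf hk
    rw [hf'] at hf hdeg hYdeg
    rw [hyy] at hYdeg
    obtain ⟨t, htt⟩ : ∃ t, tt P = t := ⟨_, rfl⟩
    obtain ⟨q, hqq⟩ : ∃ q, Nat.card ↥(P : Subgroup G) = q := ⟨_, rfl⟩
    obtain ⟨w, hww⟩ : ∃ w, D.w = w := ⟨_, rfl⟩
    rw [htt, hqq, hww] at hq
    rw [htt] at hf ht
    rw [hqq] at hdeg
    -- arithmetic: `w ≥ t k² + 1`
    have hw1 : t * k ^ 2 + 1 ≤ w := by
      by_contra hcon
      push Not at hcon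
      have h1 : w ≤ t * k ^ 2 := by omega
      have h2 : w * t ≤ t * k ^ 2 * t := Nat.mul_le_mul_right _ h1
      have h3 : f ^ 2 = t * k ^ 2 * t := by rw [hf]; ring
      omega
    have hk2 : 1 ≤ k ^ 2 := Nat.one_le_pow _ _ hk
    have hw2 : t + 1 ≤ w := by
      have : t * 1 ≤ t * k ^ 2 := Nat.mul_le_mul_left _ hk2
      omega
    have hq2 : f ^ 2 + t + 1 ≤ q := by
      have h2 : (t * k ^ 2 + 1) * t ≤ w * t := Nat.mul_le_mul_right _ hw1
      have h3 : (t * k ^ 2 + 1) * t = f ^ 2 + t := by rw [hf]; ring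
      omega
    have hwpos : 0 < D.w := by omega
    obtain ⟨F⟩ := exists_fam h D hwpos
    haveI := finite_lam h
    haveI : Fintype (Lam P) := Fintype.ofFinite _
    have hpin := F.pin (by omega) hY μ₁ hYμ (by rw [hyy, htt, hqq]; omega)
    have hp : Pinned F yy := ⟨hpin.1, hpin.2.1, fun i => by rw [hpin.2.2 i, hyy]⟩
    have hwt : tt P + 1 ≤ D.w := by rw [htt, hww]; exact hw2
    have hy1 : yy + 1 < Nat.card ↥(P : Subgroup G) := by rw [hqq]; omega
    by_cases hd : mult (res P (F.Θ ⟨0, hwpos⟩)) (hat h 1) = 0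
    · exact F.false_of_mult_one_eq_zero hp hwt (by rw [htt]; exact ht) hy1 H0
        (fun i => by rw [F.mult_hat_one_eq i ⟨0, hwpos⟩, hd]) ⟨0, hwpos⟩
    · exact F.false_of_mult_one_pos hp hwt ⟨0, hwpos⟩ hd

end Cfsg.Agent.Lib.Helper52.BL
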