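import Mathlib
import Cfsg.Agent.Lib.Helper52.BL.Main2

/-!
# The Brauer–Leonard alternative for irreducible characters of small degree.
-/

set_option autoImplicit false
set_option linter.style.haveILetI false
set_option linter.unusedSectionVars false
set_option linter.unusedVariables false

namespace Cfsg.Agent.Lib.Helper52.BL

open Cfsg Subgroup
open Cfsg.Agent.Lib.Helper26 Cfsg.Agent.Lib.Helper75
open scoped ComplexConjugate

universe u

/-- an irreducible character that is constant is the principal character -/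
theorem eq_one_of_forall_eq {G : Type u} [Group G] [Fintype G] {Z : G → ℂ}
    (hZ : IsIrrCharacter G Z) (hc : ∀ g, Z g = Z 1) : Z = fun _ => 1 := by
  classical
  by_contra hne
  have h1 := Helper78.classInner_irr_ne hZ Helper78.isIrrCharacter_one hne
  unfold classInner at h1
  have h2 : ∑ g : G, Z g * conj ((fun _ : G => (1 : ℂ)) g) = (Nat.card G : ℂ) * Z 1 := by
    rw [Finset.sum_congr rfl (fun g _ => by rw [hc g]), Finset.sum_const, Finset.card_univ,
      nsmul_eq_mul, ← Nat.card_eq_fintype_card]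
    simp
  rw [h2] at h1
  have hG : (Nat.card G : ℂ) ≠ 0 := by
    have : Nat.card G ≠ 0 := Nat.card_pos.ne'
    exact_mod_cast this
  rw [inv_mul_cancel_left₀ hG] at h1
  exact Helper78.IsIrrCharacter.apply_one_ne_zero hZ h1

theorem brauer_leonard {G : Type u} [Group G] [Finite G] (p : ℕ) [Fact p.Prime] (P : Sylow p G)
    (h : Star P) {X : G → ℂ} (hX : IsIrrCharacter G X) (h1 : X ≠ fun _ => 1)
    (hdeg : charDegree X ^ 2 + 1 < Nat.card ↥(P : Subgroup G)) :
    (∃ K : Subgroup G, K.Normal ∧ K ≠ ⊤ ∧ (P : Subgroup G) ≤ K) ∨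
      ((∃ N : Subgroup G, N.Normal ∧ N.index = Nat.card ↥(P : Subgroup G)) ∧
        charDegree X = 1) := by
  classical
  haveI : Fintype G := Fintype.ofFinite G
  haveI : Fintype ↥(cen P) := Fintype.ofFinite _
  haveI : Fintype ↥(nor P) := Fintype.ofFinite _
  by_cases hK : ∃ K : Subgroup G, K.Normal ∧ K ≠ ⊤ ∧ (P : Subgroup G) ≤ K
  · exact Or.inl hK
  right
  push Not at hK
  have hXc := Helper78.IsIrrCharacter.isCharacter hX
  -- no proper normal subgroup contains `P`, in character form
  have H0 : NoKer P := by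
    intro Z hZ hZ1
    by_contra hcon
    push Not at hcon
    have hZc := Helper78.IsIrrCharacter.isCharacter hZ
    have hle : (P : Subgroup G) ≤ Helper80.charKer Z hZc := fun x hx =>
      (Helper80.mem_charKer hZc x).mpr (hcon x hx)
    have htop : Helper80.charKer Z hZc = ⊤ := by
      by_contra hne
      exact hK _ (Helper80.charKer_normal hZc) hne hle
    apply hZ1
    apply eq_one_of_forall_eq hZ
    intro g
    have : g ∈ Helper80.charKer Z hZc := by rw [htop]; exact Subgroup.mem_top g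
    exact (Helper80.mem_charKer hZc g).mp this
  -- a constituent of `X|_C` that is non-trivial on `P`
  obtain ⟨x, hxP, hx⟩ := H0 X hX h1
  have hex : ∃ ψ₀ : ↥(cen P) → ℂ, IsIrrCharacter ↥(cen P) ψ₀ ∧
      mult (res P X) ψ₀ ≠ 0 ∧ cchar h ψ₀ ≠ 1 := by
    by_contra hcon
    push Not at hcon
    exact hx (apply_eq_of_forall_cchar h hXc hcon x hxP)
  obtain ⟨ψ₀, hψ₀, hψ₀m, hψ₀c⟩ := hex
  obtain ⟨hres, hm⟩ := res_eq_orbSum h hX hdeg hψ₀ hψ₀c hψ₀m
  by_cases ht : 2 ≤ tt P
  · exact (main_case h hX hdeg hψ₀ hψ₀c hres hm ht H0).elim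
  have ht1 : tt P = 1 := by
    have := tt_pos (P := P)
    omega
  have hNC : nor P ≤ cen P := Subgroup.relIndex_eq_one.mp ht1
  constructor
  · -- Burnside's transfer theorem
    have hcomp := MonoidHom.ker_transferSylow_isComplement' P hNC
    refine ⟨(MonoidHom.transferSylow P hNC).ker, inferInstance, ?_⟩
    exact hcomp.symm.index_eq_card
  · -- `P ≤ Z(X)`, so `Z(X) = G` and `X` is linear
    let χ : IrrCharacter G := ⟨X, hX⟩
    have horb : orbSum P ψ₀ = ψ₀ := by
      unfold orbSum
      have hcl := Helper78.IsCharacter.isClassFunction (Helper78.IsIrrCharacter.isCharacter hψ₀)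
      rw [Finset.sum_congr rfl (fun x _ => cj_of_mem_cen (hNC x.2) hcl), Finset.sum_const,
        Finset.card_univ, ← Nat.card_eq_fintype_card, ← tt_mul_card, ht1, one_mul]
      rw [← Nat.cast_smul_eq_nsmul ℂ, smul_smul, inv_mul_cancel₀ card_cen_ne_zero, one_smul]
    have hPZ : (P : Subgroup G) ≤ Helper77.irrCenter χ := by
      intro x hx
      rw [Helper77.mem_irrCenter]
      show ‖X x‖ = ‖X 1‖
      have e1 : X x = res P X ⟨x, le_cen h hx⟩ := rfl
      have e2 : X 1 = res P X 1 := rfl
      rw [e1, e2, hres, horb]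
      have := cchar_mul h hψ₀ ⟨x, hx⟩ 1
      rw [mul_one] at this
      rw [this, norm_mul]
      have hn : ‖((cchar h ψ₀ ⟨x, hx⟩ : ℂˣ) : ℂ)‖ = 1 := by
        have h2 := Helper81.monoidHom_units_mul_conj (cchar h ψ₀) ⟨x, hx⟩
        rw [Complex.mul_conj, Complex.normSq_eq_norm_sq] at h2
        have h3 : ‖((cchar h ψ₀ ⟨x, hx⟩ : ℂˣ) : ℂ)‖ ^ 2 = 1 := by exact_mod_cast h2
        have h4 : 0 ≤ ‖((cchar h ψ₀ ⟨x, hx⟩ : ℂˣ) : ℂ)‖ := norm_nonneg _
        nlinarith
      rw [hn, one_mul]
    have htop : Helper77.irrCenter χ = ⊤ := by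
      by_contra hne
      exact hK _ inferInstance hne hPZ
    have hsq := Helper77.card_irrCenter_mul_sq_le χ
    rw [htop] at hsq
    have hcard : (Nat.card (⊤ : Subgroup G) : ℝ) = (Nat.card G : ℝ) := by
      rw [Subgroup.card_top]
    rw [hcard] at hsq
    have hGpos : (0 : ℝ) < (Nat.card G : ℝ) := by exact_mod_cast Nat.card_pos
    have hle1 : ‖(χ : G → ℂ) 1‖ ^ 2 ≤ 1 := by
      by_contra hcon
      push Not at hcon
      nlinarith
    have hX1 : (χ : G → ℂ) 1 = (charDegree X : ℂ) :=
      Helper78.IsCharacter.apply_one_eq_charDegree hXc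
    rw [hX1] at hle1
    have hpos := Helper78.IsIrrCharacter.charDegree_pos hX
    have hle2 : ((charDegree X : ℝ)) ^ 2 ≤ 1 := by
      have : ‖((charDegree X : ℕ) : ℂ)‖ = (charDegree X : ℝ) := by
        rw [Complex.norm_natCast]
      rw [this] at hle1
      exact hle1
    have hle3 : charDegree X ^ 2 ≤ 1 := by exact_mod_cast hle2
    rcases Nat.lt_or_ge (charDegree X) 2 with h2 | h2
    · omega
    · have : 4 ≤ charDegree X ^ 2 := by nlinarith
      omega

end Cfsg.Agent.Lib.Helper52.BL
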