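import Mathlib
import Cfsg.Agent.Lib.Helper52.BL.Thm

/-!
# Brauer–Leonard: a faithful character of small degree forces a normal Sylow subgroup.
-/

set_option autoImplicit false
set_option linter.style.haveILetI false
set_option linter.unusedSectionVars false
set_option linter.unusedVariables false

namespace Cfsg.Agent.Lib.Helper52.BL

open Cfsg Subgroup
open scoped ComplexConjugate commutatorElement

universe u

/-- the hypothesis `Star` passes to a subgroup containing `P` -/
theorem star_subtype {G : Type u} [Group G] {p : ℕ} [Fact p.Prime] {P : Sylow p G} (h : Star P)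
    {M : Subgroup G} (hPM : (P : Subgroup G) ≤ M) : Star (P.subtype hPM) := by
  intro x hx hx1
  have hxP : (x : G) ∈ (P : Subgroup G) := by
    rw [Sylow.coe_subtype] at hx
    exact Subgroup.mem_subgroupOf.mp hx
  have hx1G : (x : G) ≠ 1 := fun he => hx1 (Subtype.ext he)
  have hG := h (x : G) hxP hx1G
  ext m
  rw [Subgroup.mem_centralizer_iff, Subgroup.mem_centralizer_iff]
  constructor
  · intro hm y hy
    have hyP : (y : G) ∈ (P : Subgroup G) := by
      have hy' : y ∈ ((P.subtype hPM : Sylow p ↥M) : Subgroup ↥M) := hy
      rw [Sylow.coe_subtype] at hy'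
      exact Subgroup.mem_subgroupOf.mp hy'
    have hmx : (m : G) ∈ centralizer ({(x : G)} : Set G) := by
      rw [Subgroup.mem_centralizer_iff]
      intro z hz
      rw [Set.mem_singleton_iff.mp hz]
      have := hm x (Set.mem_singleton x)
      exact congrArg Subtype.val this
    rw [hG] at hmx
    apply Subtype.ext
    exact Subgroup.mem_centralizer_iff.mp hmx (y : G) hyP
  · intro hm y hy
    rw [Set.mem_singleton_iff.mp hy]
    have hmP : (m : G) ∈ centralizer ((P : Subgroup G) : Set G) := by
      rw [Subgroup.mem_centralizer_iff]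
      intro z hz
      have hz' : (⟨z, hPM hz⟩ : ↥M) ∈ ((P.subtype hPM : Sylow p ↥M) : Subgroup ↥M) := by
        rw [Sylow.coe_subtype]
        exact Subgroup.mem_subgroupOf.mpr hz
      exact congrArg Subtype.val (hm ⟨z, hPM hz⟩ hz')
    rw [← hG] at hmP
    apply Subtype.ext
    exact Subgroup.mem_centralizer_iff.mp hmP (x : G) (Set.mem_singleton _)

theorem card_subtype_sylow {G : Type u} [Group G] {p : ℕ} [Fact p.Prime] {P : Sylow p G}
    {M : Subgroup G} (hPM : (P : Subgroup G) ≤ M) :
    Nat.card ↥((P.subtype hPM : Sylow p ↥M) : Subgroup ↥M) = Nat.card ↥(P : Subgroup G) := by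
  rw [Sylow.coe_subtype]
  exact Nat.card_congr (Subgroup.subgroupOfEquivOfLe hPM).toEquiv

theorem normal_of_faithful_aux (N : ℕ) : ∀ {G : Type u} [Group G] [Finite G],
    Nat.card G = N → ∀ (p : ℕ) [Fact p.Prime] (P : Sylow p G), Star P → ∀ {χ : G → ℂ},
    IsCharacter G χ → (∀ g, χ g = χ 1 → g = 1) →
    charDegree χ ^ 2 + 1 < Nat.card ↥(P : Subgroup G) → (P : Subgroup G).Normal := by
  induction N using Nat.strong_induction_on with
  | _ N ih =>
    intro G _ _ hN p _ P h χ hχ hfaith hdeg
    classical
    haveI : Fintype G := Fintype.ofFinite G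
    set M : Subgroup G := Subgroup.normalClosure ((P : Subgroup G) : Set G) with hM
    have hPM : (P : Subgroup G) ≤ M := Subgroup.subset_normalClosure
    by_cases hMtop : M = ⊤
    · -- no proper normal subgroup contains `P`
      have hK : ∀ K : Subgroup G, K.Normal → K ≠ ⊤ → ¬ (P : Subgroup G) ≤ K := by
        intro K hKn hKtop hPK
        apply hKtop
        have : M ≤ K := by
          haveI := hKn
          exact Subgroup.normalClosure_le_normal hPK
        rw [hMtop] at this
        exact top_le_iff.mp this
      -- every irreducible constituent of `χ` is linear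
      have hlin : ∀ Z : IrrCharacter G, mult χ (Z : G → ℂ) ≠ 0 → (Z : G → ℂ) 1 = 1 := by
        intro Z hZm
        have hZc := Helper78.IsIrrCharacter.isCharacter Z.2
        have hd1 : charDegree (Z : G → ℂ) = 1 := by
          by_cases hZ1 : (Z : G → ℂ) = fun _ => 1
          · exact Helper80.charDegree_natCast (by rw [hZ1]; simp)
          · have hle : charDegree (Z : G → ℂ) ≤ charDegree χ := by
              have h1 := mult_le_charDegree hχ Z.2
              have h2 : charDegree (Z : G → ℂ) ≤ mult χ (Z : G → ℂ) * charDegree (Z : G → ℂ) :=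
                Nat.le_mul_of_pos_left _ (Nat.pos_of_ne_zero hZm)
              exact h2.trans h1
            have hdegZ : charDegree (Z : G → ℂ) ^ 2 + 1 < Nat.card ↥(P : Subgroup G) := by
              have := Nat.pow_le_pow_left hle 2
              omega
            rcases brauer_leonard p P h Z.2 hZ1 hdegZ with ⟨K, hKn, hKtop, hPK⟩ | ⟨-, hd⟩
            · exact absurd hPK (hK K hKn hKtop)
            · exact hd
        rw [Helper78.IsCharacter.apply_one_eq_charDegree hZc, hd1]
        simp
      -- the commutator subgroup is trivial
      have hcomm : ∀ g ∈ commutator G, g = 1 := by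
        intro g hg
        apply hfaith
        have h1 := eq_sum_mult hχ
        have h2 : ∀ x : G, χ x = ∑ Z : IrrCharacter G, (mult χ (Z : G → ℂ) : ℂ) * (Z : G → ℂ) x := by
          intro x
          conv_lhs => rw [h1]
          rw [Finset.sum_apply]
          rfl
        rw [h2 g, h2 1]
        apply Finset.sum_congr rfl
        intro Z _
        by_cases hZm : mult χ (Z : G → ℂ) = 0
        · rw [hZm]; simp
        · rw [Helper77.linear_character_eq_one_of_mem_commutator Z (hlin Z hZm) g hg, hlin Z hZm]
      refine ⟨fun n hn g => ?_⟩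
      have hc : ⁅g, n⁆ ∈ commutator G := by
        rw [_root_.commutator_def]
        exact Subgroup.commutator_mem_commutator (Subgroup.mem_top g) (Subgroup.mem_top n)
      have := hcomm _ hc
      rw [commutatorElement_def] at this
      have e : g * n * g⁻¹ = n := by
        have h3 : g * n * g⁻¹ * n⁻¹ * n = 1 * n := by rw [this]
        rw [inv_mul_cancel_right, one_mul] at h3
        exact h3
      rw [e]; exact hn
    · -- induction: `P` is normal in `M`, hence characteristic in `M`, hence normal in `G`
      have hcard : Nat.card ↥M < N := by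
        rw [← hN]
        exact lt_of_le_of_ne (Subgroup.card_le_card_group M)
          (fun he => hMtop ((Subgroup.card_eq_iff_eq_top M).mp he))
      have hres : IsCharacter ↥M (fun m : ↥M => χ m) := Helper75.isCharacter_res M hχ
      have hfaith' : ∀ m : ↥M, (fun m : ↥M => χ m) m = (fun m : ↥M => χ m) 1 → m = 1 := by
        intro m hm
        apply Subtype.ext
        exact hfaith (m : G) hm
      have hdeg' : charDegree (fun m : ↥M => χ m) ^ 2 + 1 <
          Nat.card ↥((P.subtype hPM : Sylow p ↥M) : Subgroup ↥M) := by
        rw [card_subtype_sylow hPM]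
        exact hdeg
      have hnormal' := ih (Nat.card ↥M) hcard rfl p (P.subtype hPM) (star_subtype h hPM) hres
        hfaith' hdeg'
      haveI := Sylow.characteristic_of_normal (P.subtype hPM) hnormal'
      haveI : M.Normal := Subgroup.normalClosure_normal
      have := ConjAct.normal_of_characteristic_of_normal (H := M)
        (K := ((P.subtype hPM : Sylow p ↥M) : Subgroup ↥M))
      rw [Sylow.coe_subtype, Subgroup.map_subgroupOf_eq_of_le hPM] at this
      exact this

theorem normal_of_faithful {G : Type u} [Group G] [Finite G] (p : ℕ) [Fact p.Prime]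
    (P : Sylow p G) (h : Star P) {χ : G → ℂ} (hχ : IsCharacter G χ)
    (hfaith : ∀ g, χ g = χ 1 → g = 1)
    (hdeg : charDegree χ ^ 2 + 1 < Nat.card ↥(P : Subgroup G)) : (P : Subgroup G).Normal :=
  normal_of_faithful_aux (Nat.card G) rfl p P h hχ hfaith hdeg

end Cfsg.Agent.Lib.Helper52.BL
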